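import Cfsg.Agent.Lib.PGrp.TwoReg
import Cfsg.Agent.Lib.Char.Kazarin

/-! Groups whose non-central `p`-regular elements all have the same class size: the class size is
a power of `p` when two further primes have non-central elements. -/

set_option autoImplicit false

namespace Cfsg.Agent.PGrp

open Subgroup
open scoped commutatorElement

variable {G : Type*} [Group G] [Finite G] {p m : ℕ}

theorem ncPrime_of_dvd_index {s : ℕ} (hs : s.Prime) (hsp : s ≠ p) {H : Subgroup G}
    (hZ : center G ≤ H) (hd : s ∣ H.index) : NcPrime G p s := by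
  haveI := Fact.mk hs
  obtain ⟨S⟩ : Nonempty (Sylow s G) := inferInstance
  obtain ⟨u, hu, huZ⟩ := SetLike.not_le_iff_exists.mp
    (fun e => Cls.not_dvd_index_of_sylow_le (Q := S) (e.trans hZ) hd)
  obtain ⟨k, hk⟩ := S.isPGroup' ⟨u, hu⟩
  exact ⟨hs, hsp, u, k, congrArg Subtype.val hk, huZ⟩

namespace TwoReg

variable (h : TwoReg G p m) {x : G} (hx : (orderOf x).Coprime p) (hxZ : x ∉ center G)
include h hx hxZ

theorem ncPrime_of_dvd {s : ℕ} (hs : s.Prime) (hsp : s ≠ p) (hd : s ∣ m) : NcPrime G p s :=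
  ncPrime_of_dvd_index hs hsp (Cls.center_le_centralizer_single x) (h.index x hx hxZ ▸ hd)

theorem sN_mul_eq {u : ℕ} (hu : NcPrime G p u) (hd : u ∣ m) :
    sN (normalizer ((centralizer ({x} : Set G) : Subgroup G) : Set G) ⧸
      (centralizer ({x} : Set G)).subgroupOf _) u * u = (u - 1) * Nat.card
      (normalizer ((centralizer ({x} : Set G) : Subgroup G) : Set G) ⧸
        (centralizer ({x} : Set G)).subgroupOf _) := by
  haveI := Fact.mk hu.1
  obtain ⟨v, hv, hvu⟩ := h.two u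
  haveI := Fact.mk hv.1
  obtain ⟨D, hD, hDc, hDC, hDZ, hN, -, hCD⟩ := h.exists_part hx hxZ hv
  have hpow := fun {w k} hw hk => h.pow_mem hx hxZ hu (w := w) hw (k := k) hk
  have hX := fun {w k g n} hw hk hwC hg hn hgn hc =>
    h.mem_of_commutator_mem hx hxZ hu (w := w) (g := g) hw (k := k) hk hwC hg (n := n) hn hgn hc
  obtain ⟨w₀, hw₀, hw₀C, k₀, hk₀⟩ := h.exists_mem_normalizer hx hxZ hu hd
  have heq : ∀ b ∈ D, b ∉ center G → centralizer ({b} : Set G) = centralizer {x} :=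
    fun b hb hbZ => by
      obtain ⟨j, hj⟩ := hD ⟨b, hb⟩
      exact h.eq_cent hx hxZ (hDC hb)
        (coprime_orderOf_of_pow hv.1 h.hp hv.2.1 (congrArg Subtype.val hj)) hbZ
  generalize centralizer ({x} : Set G) = C at *
  set H := normalizer (C : Set G) with hH
  let f := QuotientGroup.mk' (center G)
  let π := QuotientGroup.mk' (C.subgroupOf H)
  have hπ : ∀ g : H, π g = 1 ↔ (g : G) ∈ C := fun g => QuotientGroup.eq_one_iff g
  have hKc : IsMulCommutative (D.map f) := inferInstance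
  letI : CommGroup (D.map f) := { (inferInstance : Group (D.map f)) with mul_comm := hKc.is_comm.comm }
  have hn : H.map f ≤ normalizer ((D.map f : Subgroup _) : Set _) :=
    (map_mono hN).trans (le_normalizer_map f)
  letI : MulDistribMulAction H (D.map f) :=
    MulDistribMulAction.compHom _ ((Coprime.conjHom hn).comp (f.subgroupMap H))
  let ρ := Representation.ofMulDistribMulAction H (D.map f)
  have hρ : ∀ (g : H) (w : Additive (D.map f)),
      ((ρ g w).toMul : G ⧸ center G) = f g * w.toMul * (f g)⁻¹ := fun _ _ => rfl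
  have hker : C.subgroupOf H ≤ ρ.ker := fun g hg => by
    refine LinearMap.ext fun w => Additive.toMul.injective (Subtype.ext ?_)
    obtain ⟨a, ha, e⟩ := w.toMul.2
    have : a * g = g * a := (hCD ▸ hg : (g : G) ∈ centralizer (D : Set G)) a ha
    rw [hρ, ← e, ← map_mul, ← this, map_mul, mul_inv_cancel_right]
    exact e
  let ι := QuotientGroup.lift (C.subgroupOf H) ρ hker
  have h1 : ∀ (g : H) (w : Additive (D.map f)) (k : ℕ), ((w.toMul : G ⧸ center G) * f g) ^ k =
      ((∑ i ∈ Finset.range k, ρ (g ^ i)) w).toMul * f g ^ k := by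
    intro g w k
    induction k with
    | zero => simp
    | succ k ih =>
      rw [pow_succ, ih, Finset.sum_range_succ, LinearMap.add_apply, toMul_add, Subgroup.coe_mul, hρ,
        Subgroup.coe_pow, map_pow]
      group
  have hlift : ∀ (w : H ⧸ C.subgroupOf H) (k : ℕ), w ^ u ^ k = 1 →
      ∃ g : H, π g = w ∧ ∃ j, (g : G) ^ u ^ j = 1 := by
    intro w k hk
    obtain ⟨g, rfl⟩ := QuotientGroup.mk'_surjective _ w
    obtain ⟨j, -, hj⟩ := (Nat.dvd_prime_pow hu.1).mp (orderOf_dvd_of_pow_eq_one hk)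
    obtain ⟨g', -, e, j', hj'⟩ := Cls.exists_p_lift hu.1 π g ⟨j, hj⟩
    exact ⟨g', e, j', by rw [← Subgroup.coe_pow, ← hj', pow_orderOf_eq_one]; rfl⟩
  refine sN_mul_eq_of_zero_norm ι ?_ hu.1 ?_ ?_ ?_ ?_
  · intro w hw
    obtain ⟨g, rfl⟩ := QuotientGroup.mk'_surjective _ w
    set t := orderOf (π g)
    have hgt : (g : G) ^ t ∈ C := by
      rw [← Subgroup.coe_pow, ← hπ, map_pow, pow_orderOf_eq_one]
    have hgC : (g : G) ∉ C := fun e => hw.one_lt.ne' (orderOf_eq_one_iff.mpr ((hπ g).mpr e))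
    have e0 : ∑ i ∈ Finset.range t, ι (π g ^ i) = ∑ i ∈ Finset.range t, ρ (g ^ i) :=
      Finset.sum_congr rfl fun i _ => by rw [← map_pow]; rfl
    rw [e0]
    refine LinearMap.ext fun w => Additive.toMul.injective (Subtype.ext ?_)
    obtain ⟨a, ha, e⟩ := w.toMul.2
    have h2 := h1 g w t
    have hmem : ∀ j : ℕ, (a * g) ^ j * ((g : G) ^ j)⁻¹ ∈ D := by
      intro j
      induction j with
      | zero => simp
      | succ j ih =>
        have : (a * g) ^ (j + 1) * ((g : G) ^ (j + 1))⁻¹ =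
          (a * g) ^ j * ((g : G) ^ j)⁻¹ * (g ^ j * a * ((g : G) ^ j)⁻¹) := by
          rw [pow_succ, pow_succ]; group
        rw [this]
        exact mul_mem ih (Frob.conj_mem_of_mem_normalizer (_root_.pow_mem (hN g.2) _) ha)
    have hbZ : (a * g) ^ t * ((g : G) ^ t)⁻¹ ∈ center G := by
      by_contra hbZ
      refine hgC (heq _ (hmem t) hbZ ▸ Cls.mem_centralizer_single_commute.mpr ?_)
      have c1 : Commute a ((g : G) ^ t) := (hCD ▸ hgt : _ ∈ centralizer (D : Set G)) a ha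
      have c2 : Commute (a * g) ((a * g) ^ t * ((g : G) ^ t)⁻¹) :=
        ((Commute.refl _).pow_right t).mul_right
          (c1.mul_left ((Commute.refl _).pow_right t)).inv_right
      have c3 : Commute a ((a * g) ^ t * ((g : G) ^ t)⁻¹) :=
        Core.mul_comm_of_mem_of_isMulCommutative hDc ha (hmem t)
      have := c3.inv_left.mul_left c2
      rwa [inv_mul_cancel_left] at this
    have h3 : f ((a * g) ^ t * ((g : G) ^ t)⁻¹) = 1 := (QuotientGroup.eq_one_iff _).mpr hbZ
    rw [map_mul, map_inv, map_pow, map_pow, map_mul, e, h2, mul_inv_cancel_right] at h3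
    exact h3
  · intro e
    obtain ⟨a, ha, haZ⟩ := SetLike.not_le_iff_exists.mp hDZ
    have h3 := congrArg (fun φ => ((φ (Additive.ofMul ⟨f a, mem_map_of_mem f ha⟩)).toMul :
      G ⧸ center G)) e
    have h4 : f a ^ u = 1 := by simpa using h3
    obtain ⟨j, hj⟩ := hD ⟨a, ha⟩
    have h5 : f a ^ v ^ j = 1 := by
      rw [← map_pow, show a ^ v ^ j = 1 from congrArg Subtype.val hj, map_one]
    exact haZ ((QuotientGroup.eq_one_iff a).mp (orderOf_eq_one_iff.mp (Nat.eq_one_of_dvd_coprimes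
      (((Nat.coprime_primes hu.1 hv.1).mpr hvu.symm).pow_right j) (orderOf_dvd_of_pow_eq_one h4)
      (orderOf_dvd_of_pow_eq_one h5))))
  · have : orderOf (π ⟨w₀, hw₀⟩) = u := orderOf_eq_prime (by
      rw [← map_pow, hπ]; exact hpow hw₀ hk₀) fun e => hw₀C ((hπ _).mp e)
    exact this ▸ orderOf_dvd_natCard _
  · intro w k hk
    obtain ⟨g, rfl, j, hj⟩ := hlift w k hk
    rw [← map_pow, hπ]
    exact hpow g.2 hj
  · intro w₁ w hw₁ hw hc
    obtain ⟨g₁, rfl, j, hj⟩ := hlift w₁ 1 (by rw [pow_one, ← hw₁, pow_orderOf_eq_one])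
    obtain ⟨g, rfl⟩ := QuotientGroup.mk'_surjective _ w
    refine (hπ g).mpr (hX g₁.2 hj (fun e => ?_) g.2 hw ?_ ?_)
    · rw [(hπ g₁).mpr e, orderOf_one] at hw₁
      exact hu.1.one_lt.ne hw₁
    · rw [← Subgroup.coe_pow, ← hπ, map_pow, pow_orderOf_eq_one]
    · refine (hπ (g₁⁻¹ * (g⁻¹ * g₁ * g))).mp ?_
      simp only [map_mul, map_inv]
      rw [mul_assoc (π g)⁻¹, (show Commute (π g₁) (π g) from hc).eq]
      group

theorem eq_of_dvd {q s : ℕ} (hq : q.Prime) (hs : s.Prime) (hqp : q ≠ p) (hsp : s ≠ p)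
    (hqm : q ∣ m) (hsm : s ∣ m) : q = s := by
  by_contra hqs
  exact false_of_sN_mul_eq hq hs hqs (h.sN_mul_eq hx hxZ (h.ncPrime_of_dvd hx hxZ hq hqp hqm) hqm)
    (h.sN_mul_eq hx hxZ (h.ncPrime_of_dvd hx hxZ hs hsp hsm) hsm)

omit hx hxZ in
/-- The final contradiction, from a normal `s`-subgroup of `G / O` where `O / Z(G)` is a
`p`-group. -/
theorem false_of_normal {K : Type*} [Group K] (F : G →* K) (hF : Function.Surjective F)
    (hZ : center G ≤ F.ker) (hO : ∀ g ∈ F.ker, ∃ k, g ^ p ^ k ∈ center G) {W : Subgroup K}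
    [W.Normal] {s : ℕ} (hs : s.Prime) (hsp : s ≠ p) (hW : IsPGroup s W) (hW1 : W ≠ ⊥) {q : ℕ}
    (hq : q.Prime) (hqp : q ≠ p) (hqm : q ∣ m) : False := by
  haveI := Fact.mk hs
  have hOZ : ∀ g ∈ F.ker, (orderOf g).Coprime p → g ∈ center G := fun g hg hgp => by
    obtain ⟨k, hk⟩ := hO g hg
    obtain ⟨j, hj⟩ := exists_pow_eq_self_of_coprime (hgp.symm.pow_left k)
    exact hj ▸ _root_.pow_mem hk j
  obtain ⟨S, hS⟩ := Coprime.exists_isSylowIn s (W.comap F)
  have hSW : S.map F = W := by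
    have h1 := hS.map F
    rw [map_comap_eq_self_of_surjective hF] at h1
    haveI := Finite.of_surjective F hF
    exact (h1.eq_of_le h1.1 le_rfl hW).symm
  have hSZ : ¬ S ≤ center G := fun e => hW1 (by
    rw [← hSW, Subgroup.map_eq_bot_iff]; exact e.trans hZ)
  obtain ⟨x, hxS, hxZ, -, hxc⟩ := exists_fixed_mod_center hS.2.1 hS.2.1 le_normalizer hSZ
  have hreg : ∀ b ∈ S, ∃ j, b ^ s ^ j = 1 := fun b hb => by
    obtain ⟨j, hj⟩ := hS.2.1 ⟨b, hb⟩
    exact ⟨j, congrArg Subtype.val hj⟩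
  obtain ⟨k, hk⟩ := hreg x hxS
  have hx := coprime_orderOf_of_pow hs h.hp hsp hk
  have hsN : NcPrime G p s := ⟨hs, hsp, x, k, hk, hxZ⟩
  have hqN := h.ncPrime_of_dvd hx hxZ hq hqp hqm
  -- an element normalizing `C` whose commutators with `C` have `s`-power order modulo `O`
  have key : ∀ (t : ℕ), NcPrime G p t → ∀ g ∈ normalizer ((centralizer ({x} : Set G) : Subgroup G) :
      Set G), ∀ n : ℕ, n.Coprime t → g ^ n ∈ center G →
      (∀ y : G, ∃ j : ℕ, j.Coprime t ∧ F ⁅g, y⁆ ^ j = 1) → g ∈ centralizer ({x} : Set G) := by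
    intro t ht g hg n hn hgn hc
    obtain ⟨D, hD, -, hDC, hDZ, hN, -, -⟩ := h.exists_part hx hxZ ht
    obtain ⟨y, hy, hyZ⟩ := SetLike.not_le_iff_exists.mp hDZ
    obtain ⟨l, hl⟩ := hD ⟨y, hy⟩
    have hl' : y ^ t ^ l = 1 := congrArg Subtype.val hl
    have hb : ⁅g, y⁆ ∈ D := mul_mem (Frob.conj_mem_of_mem_normalizer (hN hg) hy) (inv_mem hy)
    obtain ⟨l', hl2⟩ := hD ⟨_, hb⟩
    have hl2' : ⁅g, y⁆ ^ t ^ l' = 1 := congrArg Subtype.val hl2
    obtain ⟨j, hj, hj'⟩ := hc y
    have h1 : ⁅g, y⁆ ∈ F.ker := orderOf_eq_one_iff.mp (Nat.eq_one_of_dvd_coprimes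
      (hj.pow_right l') (orderOf_dvd_of_pow_eq_one hj')
      (orderOf_dvd_of_pow_eq_one (by rw [← map_pow, hl2', map_one])))
    rw [← h.eq_cent hx hxZ (hDC hy) (coprime_orderOf_of_pow ht.1 h.hp ht.2.1 hl') hyZ]
    exact Cls.mem_centralizer_single_commute.mpr (commute_of_commutator_mem_center
      (hOZ _ h1 (coprime_orderOf_of_pow ht.1 h.hp ht.2.1 hl2'))
      (Subgroup.mem_center_iff.mp hgn y).symm hl' (hn.pow_right l))
  have hSC : S ≤ centralizer ({x} : Set G) := fun g hg => by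
    obtain ⟨t, ht, hts⟩ := h.two s
    obtain ⟨j, hj⟩ := hreg g hg
    have hcop := (Nat.coprime_primes hs ht.1).mpr hts.symm
    refine key t ht g ?_ _ (hcop.pow_left j) (hj ▸ one_mem _) fun y => ?_
    · rw [← Transfer.conj_smul_eq_iff_mem_normalizer, Transfer.conj_smul_eq_map,
        ← Cls.centralizer_single_conj, show g * x * g⁻¹ = x * ⁅g, x⁆ by
          rw [Subgroup.mem_center_iff.mp (hxc g hg) x, commutatorElement_def]; group,
        Cls.centralizer_single_mul_center (hxc g hg)]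
    · have h1 : ⁅g, y⁆ ∈ W.comap F := by
        rw [commutatorElement_def, mul_assoc, mul_assoc, ← mul_assoc y]
        exact mul_mem (hS.1 hg) ((inferInstance : (W.comap F).Normal).conj_mem _
          (inv_mem (hS.1 hg)) y)
      obtain ⟨i, hi⟩ := hW ⟨_, h1⟩
      exact ⟨_, hcop.pow_left i, congrArg Subtype.val hi⟩
  have hCS : centralizer (S : Set G) = centralizer ({x} : Set G) := by
    refine le_antisymm (centralizer_le (Set.singleton_subset_iff.mpr hxS))
      (le_centralizer_iff.mp fun g hg => ?_)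
    obtain ⟨j, hj⟩ := hreg g hg
    exact Cls.le_centralizer_single_iff.mp
      (h.le_cent hx hxZ (hSC hg) (coprime_orderOf_of_pow hs h.hp hsp hj))
  have hHF : (normalizer ((centralizer ({x} : Set G) : Subgroup G) : Set G)).map F = ⊤ := by
    have h1 := hS.frattini_argument le_top le_normalizer_of_normal
    have h2 : normalizer (S : Set G) ≤
        normalizer ((centralizer ({x} : Set G) : Subgroup G) : Set G) :=
      hCS ▸ Core.le_normalizer_centralizer le_rfl
    rw [eq_top_iff, ← map_top_of_surjective F hF, ← h1, Subgroup.map_sup,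
      map_comap_eq_self_of_surjective hF, ← hSW]
    exact sup_le (map_mono (le_normalizer.trans h2)) (map_mono (inf_le_right.trans h2))
  have hOC : ∀ g ∈ normalizer ((centralizer ({x} : Set G) : Subgroup G) : Set G), F g = 1 →
      g ∈ centralizer ({x} : Set G) := fun g hg hg1 => by
    obtain ⟨j, hj⟩ := hO g hg1
    refine key s hsN g hg _ (((Nat.coprime_primes h.hp hs).mpr hsp.symm).pow_left j) hj
      fun y => ⟨1, Nat.coprime_one_left s, ?_⟩
    rw [map_commutatorElement, hg1, pow_one, commutatorElement_one_left]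
  obtain ⟨g, hg, hgC, i, hi⟩ := h.exists_mem_normalizer hx hxZ hqN hqm
  have hgp := coprime_orderOf_of_pow hq h.hp hqp hi
  have hgZ : g ∉ center G := fun e => hgC (Cls.center_le_centralizer_single x e)
  obtain ⟨t, ht, htq⟩ := h.two q
  haveI := Fact.mk ht.1
  obtain ⟨y, hy, l, hl, hyZ⟩ := h.exists_mem hgp hgZ ht
  obtain ⟨w, hw, hwy⟩ : F y ∈ (normalizer ((centralizer ({x} : Set G) : Subgroup G) : Set G)).map
    F := hHF ▸ mem_top _
  obtain ⟨j, -, hj⟩ := (Nat.dvd_prime_pow ht.1).mp (orderOf_dvd_of_pow_eq_one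
    (show F w ^ t ^ l = 1 by rw [hwy, ← map_pow, hl, map_one]))
  obtain ⟨w', hw', e, j', hj'⟩ := Cls.exists_p_lift ht.1 F w ⟨j, hj⟩
  have hw'N := zpowers_le.mpr hw hw'
  have hj2 : w' ^ t ^ j' = 1 := by rw [← hj', pow_orderOf_eq_one]
  rw [hwy] at e
  have hyg := Cls.mem_centralizer_single.mp hy
  by_cases hwC : w' ∈ centralizer ({x} : Set G)
  swap
  · refine hgC (h.mem_of_commutator_mem hx hxZ ht hw'N hj2 hwC hg
      (((Nat.coprime_primes hq ht.1).mpr htq.symm).pow_left i) (hi ▸ one_mem _)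
      (hOC _ (mul_mem (inv_mem hw'N) (mul_mem (mul_mem (inv_mem hg) hw'N) hg)) ?_))
    simp only [map_mul, map_inv, e]
    rw [mul_assoc (F g)⁻¹, ← map_mul, hyg, map_mul]
    group
  -- `y` is conjugate into `C` by an element of `O`
  obtain ⟨T, hT, hwT⟩ := Coprime.exists_isSylowIn_ge (U := zpowers w')
    (G := (zpowers (F w')).comap F) (zpowers_le.mpr (mem_zpowers _)) (isPGroup_zpowers_of_pow hj2)
  have hTC : T ≤ centralizer ({x} : Set G) := fun a ha => by
    obtain ⟨k, hk⟩ := mem_zpowers_iff.mp (hT.1 ha)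
    have h1 : (w' ^ k)⁻¹ * a ∈ T := mul_mem (inv_mem (zpow_mem (hwT (mem_zpowers _)) k)) ha
    obtain ⟨r, hr⟩ := hT.2.1 ⟨_, h1⟩
    have h2 := hOZ ((w' ^ k)⁻¹ * a) (by rw [MonoidHom.mem_ker, map_mul, map_inv, map_zpow, hk]; simp)
      (coprime_orderOf_of_pow ht.1 h.hp ht.2.1 (congrArg Subtype.val hr))
    have := mul_mem (zpow_mem hwC k) (Cls.center_le_centralizer_single x h2)
    rwa [mul_inv_cancel_left] at this
  obtain ⟨n, hn, hyn⟩ := hT.exists_le_conj (U := zpowers y)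
    (zpowers_le.mpr (show F y ∈ zpowers (F w') from e ▸ mem_zpowers _)) (isPGroup_zpowers_of_pow hl)
  obtain ⟨b, hb, hby⟩ := hyn (mem_zpowers y)
  have hby' : n * b * n⁻¹ = y := hby
  have hbZ : b ∉ center G := fun e' => hyZ (by
    rw [← hby', Subgroup.mem_center_iff.mp e' n, mul_inv_cancel_right]; exact e')
  obtain ⟨r, hr⟩ := hT.2.1 ⟨b, hb⟩
  have h1 : n⁻¹ * g * n ∈ centralizer ({x} : Set G) := by
    rw [← h.eq_cent hx hxZ (hTC hb)
      (coprime_orderOf_of_pow ht.1 h.hp ht.2.1 (congrArg Subtype.val hr)) hbZ,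
      Cls.mem_centralizer_single]
    calc n⁻¹ * g * n * b = n⁻¹ * (g * (n * b * n⁻¹)) * n := by group
      _ = b * (n⁻¹ * g * n) := by rw [hby', ← hyg, ← hby']; group
  obtain ⟨k, hk⟩ := mem_zpowers_iff.mp hn
  have h2 : w' ^ k * (n⁻¹ * g * n) * (w' ^ k)⁻¹ ∈ centralizer ({x} : Set G) :=
    mul_mem (mul_mem (zpow_mem hwC k) h1) (inv_mem (zpow_mem hwC k))
  have h3 := hOC (g⁻¹ * (w' ^ k * (n⁻¹ * g * n) * (w' ^ k)⁻¹))
    (mul_mem (inv_mem hg) (le_normalizer h2)) (by
      simp only [map_mul, map_inv, map_zpow, hk]; group)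
  have h4 := mul_mem h2 (inv_mem h3)
  rw [mul_inv_rev, inv_inv, mul_inv_cancel_left] at h4
  exact hgC h4

theorem exists_eq_pow : ∃ k, m = p ^ k := by
  have hm : m ≠ 0 := h.index x hx hxZ ▸ index_ne_zero_of_finite
  refine Cls.eq_pow_of_forall_prime_eq hm fun q hq hqm => ?_
  by_contra hqp
  haveI := Fact.mk hq
  haveI := Fact.mk h.hp
  obtain ⟨Q⟩ : Nonempty (Sylow q G) := inferInstance
  have hQZ : ¬ (Q : Subgroup G) ≤ center G := fun e => Cls.not_dvd_index_of_sylow_le (Q := Q)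
    (e.trans (Cls.center_le_centralizer_single x)) (h.index x hx hxZ ▸ hqm)
  obtain ⟨z, hz, hzZ, -, hzc⟩ := exists_fixed_mod_center Q.isPGroup' Q.isPGroup' le_normalizer hQZ
  obtain ⟨i, hi⟩ := Q.isPGroup' ⟨z, hz⟩
  have hi' : z ^ q ^ i = 1 := congrArg Subtype.val hi
  let f := QuotientGroup.mk' (center G)
  have hf : Function.Surjective f := QuotientGroup.mk'_surjective _
  obtain ⟨k, hk⟩ : ∃ k, (centralizer ({f z} : Set _)).index = p ^ k := by
    refine Cls.eq_pow_of_forall_prime_eq index_ne_zero_of_finite fun r hr hrd => ?_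
    by_contra hrp
    have h1 : r ∣ m := h.index z (coprime_orderOf_of_pow hq h.hp hqp hi') hzZ ▸
      hrd.trans (Cls.index_centralizer_map_dvd hf z)
    obtain rfl := h.eq_of_dvd hx hxZ hr hq hrp hqp h1 hqm
    refine Cls.not_dvd_index_of_sylow_le (Q := Q.mapSurjective hf) ?_ hrd
    rintro _ ⟨g, hg, rfl⟩
    rw [Cls.mem_centralizer_single, ← commutatorElement_eq_one_iff_mul_comm,
      ← map_commutatorElement]
    exact (QuotientGroup.eq_one_iff _).mpr (hzc g hg)
  have hz1 := Char.kazarin h.hp hk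
  let f' := QuotientGroup.mk' (pCore p (G ⧸ center G))
  have hf' : Function.Surjective f' := QuotientGroup.mk'_surjective _
  have hO : ∀ g ∈ (f'.comp f).ker, ∃ k, g ^ p ^ k ∈ center G := fun g hg => by
    obtain ⟨k, hk⟩ := Core.isPGroup_pCore p ⟨f g, (QuotientGroup.eq_one_iff _).mp hg⟩
    exact ⟨k, (QuotientGroup.eq_one_iff _).mp (congrArg Subtype.val hk)⟩
  have hne : solvableRadical ((G ⧸ center G) ⧸ pCore p (G ⧸ center G)) ≠ ⊥ := fun e => by
    have h1 := Core.map_solvableRadical_le hf' (mem_map_of_mem f' hz1)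
    rw [e, mem_bot] at h1
    obtain ⟨k, hk⟩ := hO z h1
    obtain ⟨j, hj⟩ := exists_pow_eq_self_of_coprime
      ((coprime_orderOf_of_pow hq h.hp hqp hi').symm.pow_left k)
    exact hzZ (hj ▸ _root_.pow_mem hk j)
  obtain ⟨W, hW, hWle⟩ := Core.exists_isMinNormal_le hne
  obtain ⟨s, hs, hWs⟩ := hW.exists_isPGroup
    (Core.isSolvable_of_le Core.isSolvable_solvableRadical hWle)
  haveI := hW.normal
  refine h.false_of_normal (f'.comp f) (hf'.comp hf) (fun g hg => ?_) hO hs ?_ hWs hW.ne_bot hq hqp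
    hqm
  · rw [MonoidHom.mem_ker, MonoidHom.comp_apply, show f g = 1 from
      (QuotientGroup.eq_one_iff _).mpr hg, map_one]
  · rintro rfl
    exact hW.ne_bot (Core.pCore_eq_bot_iff.mp Core.pCore_quotient_pCore W hW.normal hWs)

end TwoReg

end Cfsg.Agent.PGrp
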