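import Mathlib
import Cfsg.Agent.Lib.PGrp.Symplectic
import Cfsg.Agent.Lib.PGrp.Dedekind
import Cfsg.Agent.Lib.Reg.MetaAut
import Cfsg.Agent.Lib.Core.MinNormal

/-!
Bounds for the number of generators of `p`-groups: Alperin's centralizer lemma, Laffey's bound
and `p`-subgroups of `GL(n, p)`.
-/

namespace Cfsg.Agent.PGrp

open Subgroup
open scoped commutatorElement

universe u

variable {G : Type*} [Group G] [Finite G] {p : ℕ} [hp : Fact p.Prime]

omit [Finite G] hp in
theorem commutatorElement_pow_of_comm {B : Subgroup G} [hn : B.Normal] (hB : IsMulCommutative B)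
    (x : G) {u : G} (hu : u ∈ B) (m : ℕ) : ⁅x, u⁆ ^ m = ⁅x, u ^ m⁆ := by
  rw [commutatorElement_def, commutatorElement_def, Commute.mul_pow
    (isMulCommutative_iff_mem.mp hB _ (hn.conj_mem u hu x) _ (B.inv_mem hu)), conj_pow, inv_pow]

omit [Finite G] in
theorem commutatorElement_pow_eq_one_of_odd (hp2 : p ≠ 2) {B : Subgroup G} [hn : B.Normal]
    (hB : IsMulCommutative B) (hBp : IsPGroup p B) {x : G} (hx : x ^ p = 1)
    (h : ∀ u ∈ B, u ^ p = 1 → ⁅x, u⁆ = 1) {b : G} (hb : b ∈ B) : ⁅b, x⁆ ^ p = 1 := by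
  have key : ∀ u ∈ B, ∀ i, u ^ p ^ (i + 1) = 1 → ⁅x, u⁆ ^ p ^ i = 1 := fun u hu i hi => by
    rw [commutatorElement_pow_of_comm hB x hu, h _ (B.pow_mem hu _) (by rwa [← pow_mul, ← pow_succ])]
  have hc := commutatorElement_mem_left hb x
  obtain ⟨j, hj⟩ := hBp ⟨_, hc⟩
  replace hj : ⁅b, x⁆ ^ p ^ (j + 1) = 1 := by
    rw [pow_succ, pow_mul, show ⁅b, x⁆ ^ p ^ j = 1 from congrArg Subtype.val hj, one_pow]
  induction j with
  | zero => simpa using hj
  | succ j ih =>
    have : (Core.powKer B hB (p ^ j)).Normal := Core.normal_iff_top_le_normalizer.mpr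
      (Subgroup.le_normalizer_of_normal.trans (Core.normalizer_le_normalizer_powKer B hB _))
    have h1 := key _ hc _ hj
    have h2 := commutatorElement_mem_right x hc
    have h3 := Reg.pow_mem_of_mul_pow_eq_one (hp.out.odd_of_ne_two hp2) (Core.powKer B hB (p ^ j))
      hx (v := ⁅b, x⁆) (by rw [commutatorElement_def, inv_mul_cancel_right, conj_pow, hx]; simp)
      (by rw [commutatorElement_eq_one_iff_mul_comm.mpr
            (isMulCommutative_iff_mem.mp hB _ h2 _ hc)]; exact one_mem _)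
      (by rw [← commutatorElement_inv]
          exact Subgroup.inv_mem _ ⟨commutatorElement_mem_right x h2, key _ h2 _ h1⟩)
      ⟨B.pow_mem h2 p, by rwa [← pow_mul, ← pow_succ']⟩
    exact ih (by rw [pow_succ', pow_mul]; exact h3.2)

/-- Alperin's lemma. -/
theorem mem_of_maximal_elemAb (hG : IsPGroup p G) (hp2 : p ≠ 2) {E : Subgroup G} [E.Normal]
    (hE : IsElementaryAbelian p E)
    (hmax : ∀ K : Subgroup G, K.Normal → IsElementaryAbelian p K → E ≤ K → K = E) {x : G}
    (hx : x ∈ centralizer (E : Set G)) (hxp : x ^ p = 1) : x ∈ E := by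
  obtain ⟨B, _, hB, hEB, hC⟩ := exists_SCN_ge hG E hE.1
  have hO := hmax _ inferInstance (isElementaryAbelian_omegaOne hB)
    (le_omegaOne_of_pow_eq_one hEB hE.2)
  have h1 : ∀ u ∈ B, u ^ p = 1 → u ∈ E := fun u hu h => hO ▸ mem_omegaOne hu h
  have h2 : ∀ x ∈ centralizer (E : Set G), x ^ p = 1 → ⁅B, zpowers x⁆ ≤ E := fun x hx hxp =>
    commutator_le.mpr fun b hb y hy => h1 _ (commutatorElement_mem_left hb y)
      (commutatorElement_pow_eq_one_of_odd hp2 hB (hG.to_subgroup B)
        ((isElementaryAbelian_zpowers hxp).2 y hy) (fun u hu h =>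
          commutatorElement_eq_one_iff_mul_comm.mpr
            (mem_centralizer_iff.mp (zpowers_le.mpr hx hy) u (h1 u hu h)).symm) hb)
  have h3 : ∀ x ∈ centralizer (E : Set G), ∀ y ∈ centralizer (E : Set G), x ^ p = 1 → y ^ p = 1 →
      ⁅y, x⁆ ∈ E → (x * y) ^ p = 1 := fun x hx y hy hxp hyp h => by
    rw [mul_pow_of_odd (hp.out.odd_of_ne_two hp2) (mem_centralizer_iff.mp hx _ h)
      (mem_centralizer_iff.mp hy _ h) (hE.2 _ h), hxp, hyp, one_mul]
  have h4 : ∀ x ∈ centralizer (E : Set G), ∀ y ∈ centralizer (E : Set G), x ^ p = 1 → y ^ p = 1 →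
      ⁅y, x⁆ ∈ E := fun x hx y hy hxp hyp => by
    have h4 : ∀ x ∈ centralizer (E : Set G), ∀ y ∈ centralizer (E : Set G), x ^ p = 1 →
        ⁅⁅B, zpowers x⁆, zpowers y⁆ = ⊥ := fun x hx y hy hxp =>
      commutator_eq_bot_iff_le_centralizer.mpr
        ((h2 x hx hxp).trans (le_centralizer_iff.mp (zpowers_le.mpr hy)))
    have h5 : ⁅y, x⁆ ∈ B := hC.le (commutator_eq_bot_iff_le_centralizer.mp
      (commutator_commutator_eq_bot_of_rotate (by rw [commutator_comm _ B]; exact h4 x hx y hy hxp)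
        (h4 y hy x hx hyp)) (commutator_mem_commutator (mem_zpowers y) (mem_zpowers x)))
    refine h1 _ h5 ?_
    have h6 : ⁅y, x⁆ = y * (x * y⁻¹ * x⁻¹) := by rw [commutatorElement_def]; group
    rw [h6]
    refine h3 y hy _ (Subgroup.Normal.conj_mem inferInstance _ (Subgroup.inv_mem _ hy) x) hyp
      (by rw [conj_pow, inv_pow, hyp]; simp) ?_
    have h7 : ⁅x * y⁻¹ * x⁻¹, y⁆ = y⁻¹ * ⁅⁅y, x⁆, y⁆ * y⁻¹⁻¹ := by
      simp only [commutatorElement_def]; group
    rw [h7]
    exact Subgroup.Normal.conj_mem inferInstance _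
      (h2 y hy hyp (commutator_mem_commutator h5 (mem_zpowers y))) _
  let D : Subgroup G :=
    { carrier := {x | x ∈ centralizer (E : Set G) ∧ x ^ p = 1}
      one_mem' := ⟨one_mem _, one_pow p⟩
      mul_mem' := fun {a b} ha hb => ⟨Subgroup.mul_mem _ ha.1 hb.1,
        h3 a ha.1 b hb.1 ha.2 hb.2 (h4 a ha.1 b hb.1 ha.2 hb.2)⟩
      inv_mem' := fun {a} ha => ⟨Subgroup.inv_mem _ ha.1, by rw [inv_pow, ha.2, inv_one]⟩ }
  have : D.Normal := ⟨fun a ha g => ⟨Subgroup.Normal.conj_mem inferInstance a ha.1 g,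
    by rw [conj_pow, ha.2]; simp⟩⟩
  have hED : E ≤ D := fun e he => ⟨mem_centralizer_iff.mpr fun f hf =>
    isMulCommutative_iff_mem.mp hE.1 f hf e he, hE.2 e he⟩
  rcases hED.eq_or_lt with h | h
  · exact h.ge ⟨hx, hxp⟩
  obtain ⟨K, hK, hK1, hK2, hK3, -⟩ := exists_normal_relIndex_eq hG h
  rw [hmax K hK ⟨isMulCommutative_of_card_eq_mul hK1 (fun k hk => (hK2 hk).1) hK3,
    fun k hk => (hK2 hk).2⟩ hK1] at hK3
  exact absurd ((Nat.mul_eq_left Nat.card_pos.ne').mp hK3.symm) hp.out.one_lt.ne'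

theorem exists_maximal_elemAb : ∃ E : Subgroup G, E.Normal ∧ IsElementaryAbelian p E ∧
    ∀ K : Subgroup G, K.Normal → IsElementaryAbelian p K → E ≤ K → K = E := by
  obtain ⟨E, -, hE, h⟩ := Core.exists_maximal_ge
    (P := fun K : Subgroup G => K.Normal ∧ IsElementaryAbelian p K) (H := ⊥)
    ⟨inferInstance, isElementaryAbelian_bot⟩
  exact ⟨E, hE.1, hE.2, fun K h1 h2 => h K ⟨h1, h2⟩⟩

/-- Laffey's bound. -/
theorem index_frattini_le_card (hp2 : p ≠ 2) (G : Type u) [Group G] [Finite G] : IsPGroup p G →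
    ∀ N : Subgroup G, N ≤ center G → (∀ x, x ∈ N ↔ x ^ p = 1) →
      (frattini G).index ≤ Nat.card N := by
  refine Core.induction_on_card (P := fun G _ _ => IsPGroup p G →
    ∀ N : Subgroup G, N ≤ center G → (∀ x, x ∈ N ↔ x ^ p = 1) →
      (frattini G).index ≤ Nat.card N) ?_ G
  intro G _ _ ih hG N hN h
  rcases subsingleton_or_nontrivial G with _ | _
  · rw [Subsingleton.elim (frattini G) ⊤, index_top]
    exact Nat.card_pos
  have := normal_of_le_center hN
  have hb : N ≠ ⊥ := by
    obtain ⟨z, -, -, hz⟩ := exists_mem_center_orderOf_eq hG (N := ⊤) top_ne_bot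
    exact fun hb => hp.out.one_lt.ne' (by
      rw [← hz, mem_bot.mp (hb.le ((h z).mpr (orderOf_dvd_iff_pow_eq_one.mp hz.dvd))), orderOf_one])
  obtain ⟨A, _, hA, hmax⟩ := exists_maximal_elemAb (p := p) (G := G ⧸ N)
  have h1 : ∀ a ∈ A.comap (QuotientGroup.mk' N), ∀ b ∈ A.comap (QuotientGroup.mk' N),
      (a * b) ^ p = a ^ p * b ^ p := fun a ha b hb => by
    have h1 : ⁅b, a⁆ ∈ N := (QuotientGroup.eq_one_iff _).mp
      ((map_commutatorElement (QuotientGroup.mk' N) b a).trans
        (commutatorElement_eq_one_iff_mul_comm.mpr (isMulCommutative_iff_mem.mp hA.1 _ hb _ ha)))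
    exact mul_pow_of_odd (hp.out.odd_of_ne_two hp2) (commute_of_mem_center (hN h1) a)
      (commute_of_mem_center (hN h1) b) ((h _).mp h1)
  have h2 : ∀ a ∈ A.comap (QuotientGroup.mk' N), a ^ p ∈ N := fun a ha =>
    (QuotientGroup.eq_one_iff _).mp ((map_pow (QuotientGroup.mk' N) a p).trans (hA.2 _ ha))
  have h3 : A ≤ center (G ⧸ N) := fun a ha => Subgroup.mem_center_iff.mpr fun g => by
    obtain ⟨a, rfl⟩ := QuotientGroup.mk'_surjective N a
    obtain ⟨g, rfl⟩ := QuotientGroup.mk'_surjective N g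
    refine (commutatorElement_eq_one_iff_mul_comm.mp ?_)
    rw [← map_commutatorElement]
    refine (QuotientGroup.eq_one_iff _).mpr ((h _).mpr ?_)
    rw [commutatorElement_def, h1 _ (Subgroup.Normal.conj_mem inferInstance a ha g) _
      (Subgroup.inv_mem _ ha), conj_pow, Subgroup.mem_center_iff.mp (hN (h2 a ha)) g]
    simp
  have h4 := ih _ (Core.card_quotient_lt hb) (hG.to_quotient N) A h3 fun x => ⟨hA.2 x, fun hx =>
    mem_of_maximal_elemAb (hG.to_quotient N) hp2 hA hmax (mem_centralizer_iff.mpr fun a ha =>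
      (Subgroup.mem_center_iff.mp (h3 ha) x).symm) hx⟩
  let φ : A.comap (QuotientGroup.mk' N) →* G :=
    MonoidHom.mk' (fun a => (a : G) ^ p) fun a b => h1 a a.2 b b.2
  have h5 : φ.ker = N.subgroupOf _ := Subgroup.ext fun a => (h a).symm
  have h6 : Nat.card φ.range = Nat.card A := by
    rw [← index_ker, h5, ← relIndex, ← Core.card_map_mk_eq_relIndex,
      map_comap_eq_self_of_surjective (QuotientGroup.mk'_surjective N)]
  have h7 : φ.range ≤ frattini G ⊓ N := by
    rintro _ ⟨a, rfl⟩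
    exact ⟨pow_mem_frattini hG a, h2 a a.2⟩
  rw [← map_frattini_of_surjective hG _ (QuotientGroup.mk'_surjective N), index_map,
    QuotientGroup.ker_mk', MonoidHom.range_eq_top.mpr (QuotientGroup.mk'_surjective N), index_top,
    mul_one, ← h6] at h4
  rw [← relIndex_mul_index (le_sup_left : frattini G ≤ frattini G ⊔ N), relIndex_sup_left,
    ← card_inf_mul_relIndex (frattini G) N, mul_comm]
  exact Nat.mul_le_mul_right _ (h4.trans (card_le_of_le h7))

theorem relIndex_le_of_index_prime {E F : Subgroup G} [E.Normal] [hF : F.Normal]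
    (hE : IsElementaryAbelian p E) (h1 : F ≤ E) (h2 : Nat.card F * p = Nat.card E)
    (h3 : ⁅E, ⊤⁆ ≤ F) {m : ℕ} (hw : ∀ W : Subgroup G, W.Normal → W ≤ F → relIndex ⁅W, ⊤⁆ W ≤ m) :
    (commutator G ⊔ centralizer (E : Set G)).relIndex (centralizer (F : Set G)) ≤ m := by
  obtain ⟨v, hv, hvF⟩ : ∃ v ∈ E, v ∉ F := by
    by_contra! h
    rw [le_antisymm h1 h] at h2
    exact hp.out.one_lt.ne' ((Nat.mul_eq_left Nat.card_pos.ne').mp h2)
  have h4 : F ⊔ zpowers v = E := eq_of_le_of_card_eq (sup_le h1 (zpowers_le.mpr hv)) (by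
    rw [card_sup_zpowers (p := p) (Subgroup.le_normalizer_of_normal (mem_top v)) hvF
      (hE.2 v hv ▸ one_mem F), h2])
  have h5 : ∀ g, ⁅v, g⁆ ∈ F := fun g => h3 (commutator_mem_commutator hv (mem_top g))
  let φ : centralizer (F : Set G) →* G := MonoidHom.mk' (fun x => ⁅v, (x : G)⁆) fun x y =>
    commutatorElement_mul_right_of_commute (mem_centralizer_iff.mp x.2 _ (h5 y))
  have h6 : ∀ (g : G) (x : centralizer (F : Set G)),
      g * φ x * g⁻¹ = φ ⟨_, Subgroup.Normal.conj_mem inferInstance _ x.2 g⟩ := fun g x => by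
    change g * ⁅v, (x : G)⁆ * g⁻¹ = ⁅v, g * x * g⁻¹⁆
    have h6 : g * v * g⁻¹ = v * (v⁻¹ * ⁅v, g⁆⁻¹ * v) := by
      simp only [commutatorElement_def]; group
    have h7 : v⁻¹ * ⁅v, g⁆⁻¹ * v ∈ F := by simpa using hF.conj_mem _ (F.inv_mem (h5 g)) v⁻¹
    rw [conjugate_commutatorElement, h6, commutatorElement_mul_left_of_commute,
      commutatorElement_eq_one_iff_mul_comm.mpr (mem_centralizer_iff.mp
        (Subgroup.Normal.conj_mem inferInstance _ x.2 g) _ h7), one_mul]
    exact isMulCommutative_iff_mem.mp hE.1 _ (h1 (commutatorElement_mem_left h7 _)) v hv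
  have h7 : φ.range.Normal := ⟨by rintro _ ⟨x, rfl⟩ g; exact ⟨_, (h6 g x).symm⟩⟩
  refine le_trans ?_ (hw φ.range h7 (by rintro _ ⟨x, rfl⟩; exact h5 x))
  rw [← index_comap]
  refine index_antitone (le_trans (comap_mono
    (K' := ((commutator G).subgroupOf _).map φ) (commutator_le.mpr ?_)) ?_)
  · rintro _ ⟨x, rfl⟩ g -
    refine ⟨x * (⟨_, Subgroup.Normal.conj_mem inferInstance _ x.2 g⟩)⁻¹, ?_, ?_⟩
    · have := commutator_mem_commutator (mem_top (x : G)) (mem_top g)
      rw [commutatorElement_def] at this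
      change (x : G) * (g * x * g⁻¹)⁻¹ ∈ commutator G
      rwa [show (x : G) * (g * x * g⁻¹)⁻¹ = x * g * (x : G)⁻¹ * g⁻¹ by group]
    · rw [map_mul, map_inv, ← h6, commutatorElement_def]
      group
  · rw [comap_map_eq]
    refine sup_le (fun x hx => mem_sup_left hx) fun x hx => mem_sup_right ?_
    refine le_centralizer_iff.mp (h4.ge.trans (sup_le (le_centralizer_iff.mp (zpowers_le.mpr x.2))
      (zpowers_le.mpr ?_))) (mem_zpowers (x : G))
    rw [centralizer_zpowers]
    exact mem_centralizer_singleton_iff.mpr (commutatorElement_eq_one_iff_mul_comm.mp hx)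

omit hp [Finite G] in
theorem index_commutator_sup_eq {K L : Subgroup G} (h : K ≤ L) :
    (commutator G ⊔ K).index = (commutator G ⊔ K).relIndex L * (commutator G ⊔ L).index := by
  have := normal_of_commutator_le (le_sup_left : commutator G ≤ commutator G ⊔ K)
  rw [← relIndex_mul_index (sup_le_sup_left h _), ← relIndex_sup_left L, sup_assoc,
    sup_eq_right.mpr h]

theorem index_le_top_part (hG : IsPGroup p G) {W : Subgroup G} [W.Normal] {m : ℕ} (a : ℕ) :
    ∀ (E : Subgroup G) [E.Normal], IsElementaryAbelian p E → W ≤ E →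
      Nat.card W * p ^ a = Nat.card E →
      (∀ U : Subgroup G, U.Normal → U ≤ E → relIndex ⁅U, ⊤⁆ U ≤ m) →
      (commutator G ⊔ centralizer (E : Set G)).index ≤
        m ^ a * (commutator G ⊔ centralizer (W : Set G)).index := by
  induction a with
  | zero =>
    intro E _ _ h1 h2 _
    rw [eq_of_le_of_card_eq h1 (by simpa using h2), pow_zero, one_mul]
  | succ a ih =>
    intro E _ hE h1 h2 hw
    obtain ⟨F, _, h3, h4, h5⟩ := exists_normal_relIndex_eq' hG (lt_of_le_of_ne h1 fun h => by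
      rw [h, Nat.mul_eq_left Nat.card_pos.ne'] at h2
      exact (Nat.one_lt_pow a.succ_ne_zero hp.out.one_lt).ne' h2)
    have h6 : F < E := lt_of_le_of_ne h4 fun h => by
      rw [h, Nat.mul_eq_left Nat.card_pos.ne'] at h5
      exact hp.out.one_lt.ne' h5
    obtain ⟨K, -, k1, k2, k3, k4⟩ := exists_normal_relIndex_eq hG h6
    rw [eq_of_le_of_card_eq k2 (k3.trans h5)] at k4
    rw [index_commutator_sup_eq (centralizer_le h4), pow_succ', mul_assoc]
    exact Nat.mul_le_mul (relIndex_le_of_index_prime hE h4 h5 k4 fun U hU h => hw U hU (h.trans h4))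
      (ih F (isElementaryAbelian_of_le hE h4) h3 (Nat.eq_of_mul_eq_mul_right hp.out.pos
        (by rw [h5, ← h2, pow_succ, mul_assoc])) fun U hU h => hw U hU (h.trans h4))

omit hp in
theorem relIndex_le_of_pairing {W K Z : Subgroup G} [W.Normal] [K.Normal] [IsCyclic Z]
    (hZ : Z ≤ center G) (hK : centralizer (W : Set G) ≤ K) (h : ⁅K, W⁆ ≤ Z) {m : ℕ}
    (hw : ∀ U : Subgroup G, U.Normal → U ≤ W → relIndex ⁅U, ⊤⁆ U ≤ m) :
    (commutator G ⊔ centralizer (W : Set G)).relIndex K ≤ m := by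
  have hc : ∀ S : Set G, Z ≤ centralizer S := fun S => hZ.trans (center_le_centralizer S)
  have h1 : ⁅K, ⊤⁆ ≤ K := commutator_le_left K ⊤
  have h2 := relIndex_centralizer_symm h (hc _) (hc _)
  have h3 := relIndex_centralizer_symm ((commutator_mono h1 le_rfl).trans h) (hc _) (hc _)
  rw [← relIndex_mul_relIndex _ (⁅K, ⊤⁆ ⊔ centralizer (W : Set G)) K le_sup_right (sup_le h1 hK),
    relIndex_sup_right, h3, ← inf_relIndex_right (centralizer (K : Set G)),
    ← relIndex_mul_relIndex _ (centralizer ((⁅K, ⊤⁆ : Subgroup G) : Set G) ⊓ W) W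
      (inf_le_inf_right W (centralizer_le h1)) inf_le_right, inf_relIndex_right, mul_comm] at h2
  replace h2 := Nat.eq_of_mul_eq_mul_right (Nat.pos_of_ne_zero index_ne_zero_of_finite) h2
  refine (relIndex_le_of_le_left (sup_le_sup_right (commutator_mono le_top le_rfl) _)
    index_ne_zero_of_finite).trans (h2.le.trans (le_trans (relIndex_le_of_le_left ?_
      index_ne_zero_of_finite) (hw _ inferInstance inf_le_right)))
  refine le_inf (commutator_eq_bot_iff_le_centralizer.mp (commutator_commutator_eq_bot_of_rotate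
    ?_ ?_)) ((commutator_le_left _ _).trans inf_le_right)
  · rw [commutator_comm ⊤ K, commutator_comm]
    exact commutator_eq_bot_iff_le_centralizer.mpr inf_le_left
  · exact commutator_eq_bot_iff_le_centralizer.mpr
      ((commutator_mono le_rfl inf_le_right).trans (h.trans (hc _)))

theorem index_le_bottom_part {m : ℕ} (b : ℕ) : ∀ (G : Type u) [Group G] [Finite G], IsPGroup p G →
    ∀ (W : Subgroup G) [W.Normal], Nat.card ↥⁅W, (⊤ : Subgroup G)⁆ = p ^ b →
      (∀ U : Subgroup G, U.Normal → U ≤ W → relIndex ⁅U, ⊤⁆ U ≤ m) →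
      (commutator G ⊔ centralizer (W : Set G)).index ≤ m ^ b := by
  induction b with
  | zero =>
    intro G _ _ _ W _ h _
    rw [pow_zero, card_eq_one, commutator_comm, commutator_eq_bot_iff_le_centralizer] at h
    rw [eq_top_iff.mpr (h.trans le_sup_right), index_top, pow_zero]
  | succ b ih =>
    intro G _ _ hG W _ h hw
    obtain ⟨Z, _, hZ, hZ'⟩ := exists_normal_card_le hG ⁅W, ⊤⁆ (k := 1)
      (h ▸ Nat.pow_le_pow_right hp.out.pos (by omega))
    rw [pow_one] at hZ'
    have := isCyclic_of_prime_card hZ'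
    set f := QuotientGroup.mk' Z
    have hf : Function.Surjective f := QuotientGroup.mk'_surjective Z
    have := Subgroup.Normal.map ‹W.Normal› f hf
    have ht : (⊤ : Subgroup G).map f = ⊤ := map_top_of_surjective f hf
    have h1 := ih _ (hG.to_quotient Z) (W.map f) (by
      have h1 := Core.card_map_mk_mul Z ⁅W, ⊤⁆
      rw [inf_eq_left.mpr hZ, hZ', h, pow_succ', map_commutator, ht] at h1
      exact Nat.eq_of_mul_eq_mul_left hp.out.pos h1) fun U hU hU' => by
      have h1 := hw (U.comap f ⊓ W) inferInstance inf_le_right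
      have h2 : (U.comap f ⊓ W).map f = U := by
        refine le_antisymm (map_le_iff_le_comap.mpr inf_le_left) fun u hu => ?_
        obtain ⟨w, hw, rfl⟩ := hU' hu
        exact ⟨w, ⟨hu, hw⟩, rfl⟩
      rw [← h2, ← ht, ← map_commutator, ← relIndex_comap]
      exact (relIndex_le_of_le_left (le_comap_map _ _) index_ne_zero_of_finite).trans h1
    set K := (centralizer ((W.map f : Subgroup _) : Set (G ⧸ Z))).comap f
    have h2 : centralizer (W : Set G) ≤ K := map_le_iff_le_comap.mp (by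
      rw [← commutator_eq_bot_iff_le_centralizer, ← map_commutator,
        commutator_eq_bot_iff_le_centralizer.mpr le_rfl, Subgroup.map_bot])
    rw [index_commutator_sup_eq h2, pow_succ']
    refine Nat.mul_le_mul (relIndex_le_of_pairing (le_center_of_card_eq_prime hG hZ') h2 ?_ hw)
      (le_trans ?_ h1)
    · rw [← Core.map_mk_eq_bot_iff, map_commutator, map_comap_eq_self_of_surjective hf]
      exact commutator_eq_bot_iff_le_centralizer.mpr le_rfl
    · rw [← index_comap_of_surjective _ hf]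
      refine index_antitone ?_
      rw [_root_.commutator_def (G ⧸ Z), ← ht, ← map_commutator, ← comap_sup_eq _ _ _ hf,
        Core.comap_map_mk]
      exact sup_le (sup_le le_sup_left (le_sup_of_le_right (Core.le_comap_mk Z _))) le_sup_right

/-- `p`-subgroups of `GL(n, p)` have abelianization sections of rank at most `n ^ 2 / 4`. -/
theorem index_commutator_sup_centralizer_le (hG : IsPGroup p G) {E : Subgroup G} [E.Normal]
    (hE : IsElementaryAbelian p E) {n : ℕ} (hn : Nat.card E ≤ p ^ n) :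
    (commutator G ⊔ centralizer (E : Set G)).index ≤ p ^ (n * n / 4) := by
  have : Nonempty {U : Subgroup G // U.Normal ∧ U ≤ E} := ⟨⟨⊥, inferInstance, bot_le⟩⟩
  obtain ⟨⟨W, hW, hWE⟩, hmax⟩ := (Finite.exists_max (α := {U : Subgroup G // U.Normal ∧ U ≤ E})
    fun U => relIndex ⁅U.1, ⊤⁆ U.1 :)
  obtain ⟨w, hw⟩ := exists_relIndex_eq_pow (H := ⁅W, ⊤⁆) (hG.to_subgroup W)
  obtain ⟨a, ha⟩ := exists_relIndex_eq_pow (H := W) (hG.to_subgroup E)
  obtain ⟨b, hb⟩ := exists_card_eq_pow hG ⁅W, ⊤⁆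
  have h1 : ∀ U : Subgroup G, U.Normal → U ≤ E → relIndex ⁅U, ⊤⁆ U ≤ p ^ w :=
    fun U h1 h2 => hw ▸ hmax ⟨U, h1, h2⟩
  refine (index_le_top_part hG a E hE hWE (ha ▸ card_mul_relIndex hWE) h1).trans ((Nat.mul_le_mul_left
    _ (index_le_bottom_part b G hG W hb fun U h2 h3 => h1 U h2 (h3.trans hWE))).trans ?_)
  rw [← card_mul_relIndex hWE, ← card_mul_relIndex (commutator_le_left W ⊤), hw, ha, hb, ← pow_add,
    ← pow_add, Nat.pow_le_pow_iff_right hp.out.one_lt] at hn
  rw [← pow_add, ← pow_mul]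
  refine Nat.pow_le_pow_right hp.out.pos ((Nat.le_div_iff_mul_le four_pos).mpr ?_)
  nlinarith [sq_nonneg ((w : ℤ) - (a + b)), Nat.mul_le_mul hn hn]

omit [Finite G] in
theorem card_le_of_closure_eq {E : Subgroup G} [Finite E] (hE : IsElementaryAbelian p E)
    {S : Finset G} (h : closure (S : Set G) = E) : Nat.card E ≤ p ^ S.card := by
  classical
  subst h
  have h1 := card_closure_le (p := p) hE.1 (fun x => Subtype.ext (hE.2 x x.2))
    (S.subtype (· ∈ closure (S : Set G)))
  rw [show ((S.subtype (· ∈ closure (S : Set G)) : Finset (closure (S : Set G))) :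
    Set (closure (S : Set G))) = Subtype.val ⁻¹' (S : Set G) from Set.ext fun x => by simp,
    closure_closure_coe_preimage, card_top] at h1
  refine h1.trans (Nat.pow_le_pow_right hp.out.pos ?_)
  rw [Finset.card_subtype]
  exact Finset.card_filter_le _ _

theorem index_frattini_le_of_maximal_elemAb (hG : IsPGroup p G) (hp2 : p ≠ 2) {E : Subgroup G}
    [E.Normal] (hE : IsElementaryAbelian p E)
    (hmax : ∀ K : Subgroup G, K.Normal → IsElementaryAbelian p K → E ≤ K → K = E) {n : ℕ}
    (hn : Nat.card E ≤ p ^ n) (H : Subgroup G) : (frattini H).index ≤ p ^ (n * n / 4 + n) := by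
  set C := centralizer (E : Set G)
  have hH := hG.to_subgroup H
  rw [← relIndex_mul_index (le_sup_left : frattini H ≤ frattini H ⊔ C.subgroupOf H),
    relIndex_sup_left, mul_comm, pow_add]
  refine Nat.mul_le_mul ?_ ?_
  · have h1 := index_commutator_sup_centralizer_le (hG.to_subgroup (H ⊔ E))
      (E := E.subgroupOf (H ⊔ E)) ⟨isMulCommutative_iff_mem.mpr fun a ha b hb => Subtype.ext
        (isMulCommutative_iff_mem.mp hE.1 _ ha _ hb), fun x hx => Subtype.ext (hE.2 x hx)⟩
      ((Core.card_subgroupOf_of_le le_sup_right).trans_le hn)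
    refine le_trans ?_ h1
    set D := commutator ↥(H ⊔ E) ⊔ centralizer ((E.subgroupOf (H ⊔ E) : Subgroup ↥(H ⊔ E)) :
      Set ↥(H ⊔ E))
    have h2 : D.comap (inclusion le_sup_left) ≤ frattini H ⊔ C.subgroupOf H := by
      have h2 : E ≤ C := fun x hx => mem_centralizer_iff.mpr fun y hy =>
        isMulCommutative_iff_mem.mp hE.1 y hy x hx
      have h3 : D.map (H ⊔ E).subtype ≤ ⁅H, H⁆ ⊔ C := by
        rw [Subgroup.map_sup, map_subtype_commutator]
        refine sup_le ?_ (le_sup_of_le_right ?_)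
        · rw [← Core.map_mk_le_map_mk_iff, map_commutator, map_commutator, Subgroup.map_sup,
            (Core.map_mk_eq_bot_iff C E).mpr h2, sup_bot_eq]
        · rintro _ ⟨x, hx, rfl⟩
          exact mem_centralizer_iff.mpr fun y hy =>
            congrArg Subtype.val (mem_centralizer_iff.mp hx ⟨y, mem_sup_right hy⟩ hy)
      intro x hx
      have h4 := (Core.sup_inf_assoc_of_le_normalizer Subgroup.le_normalizer_of_normal
        (Subgroup.commutator_le_self H)).le ⟨h3 (mem_map_of_mem _ hx), x.2⟩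
      rw [← mem_map_iff_mem H.subtype_injective, Subgroup.map_sup, subgroupOf_map_subtype]
      exact sup_le_sup_right (commutator_le_map_frattini hH) _ h4
    refine (index_antitone h2).trans ?_
    rw [index_comap]
    exact relIndex_le_of_le_right le_top index_ne_zero_of_finite |>.trans (relIndex_top_right D).le
  · have h1 := index_frattini_le_card hp2 (C.subgroupOf H) (hH.to_subgroup _)
      (E.comap (H.subtype.comp (Subgroup.subtype _))) (fun x hx => Subgroup.mem_center_iff.mpr
        fun y => Subtype.ext (Subtype.ext (mem_centralizer_iff.mp y.2 _ hx).symm))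
      fun x => ⟨fun hx => Subtype.ext (Subtype.ext (hE.2 _ hx)), fun hx =>
        mem_of_maximal_elemAb hG hp2 hE hmax x.2 (congrArg (Subtype.val ∘ Subtype.val) hx)⟩
    refine (index_antitone (map_le_iff_le_comap.mp (map_frattini_subtype_le hH _))).trans
      (h1.trans (le_trans ?_ hn))
    exact Nat.card_le_card_of_injective (fun x => ⟨_, x.2⟩)
      fun x y h => Subtype.ext (Subtype.ext (Subtype.ext (Subtype.mk.inj h)))

end Cfsg.Agent.PGrp
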