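import Mathlib
import Cfsg.Agent.Lib.PGrp.ConjOrder

/-!
Groups in which (abelian, or prime power order) subgroups of equal order are conjugate, part 2:
quotients.
-/

namespace Cfsg.Agent.PGrp

open Subgroup
open scoped commutatorElement

variable {G : Type*} [Group G] [Finite G] {p : ℕ} [hp : Fact p.Prime]

omit hp [Finite G] in
theorem isMulCommutative_of_map_of_inf_ker {H : Type*} [Group H] {f : G →* H} {P : Subgroup G}
    (h : IsMulCommutative (P.map f)) (hk : P ⊓ f.ker = ⊥) : IsMulCommutative P := by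
  rw [isMulCommutative_iff_commutator_eq_bot] at h ⊢
  refine le_bot_iff.mp (hk ▸ le_inf (Subgroup.commutator_le_self P) ?_)
  rw [← Subgroup.map_eq_bot_iff, map_commutator, h]

/-- If `G` has `p`-rank at least two and a normal `p`-solvable subgroup of order divisible by `p`,
then a `p`-subgroup maps into a minimal normal subgroup modulo `O_{p'}(G)`. -/
theorem ConjAbP.exists_le_comap (h : ConjAbP p G) (hr : ¬ PRankLE p 1 G) {H : Subgroup G}
    [H.Normal] (hs : IsPSolvable p H) (hd : p ∣ Nat.card H) :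
    ∃ N : Subgroup (G ⧸ pPrimeCore p G), N.Normal ∧ IsElementaryAbelian p N ∧
      ∀ P : Subgroup G, IsPGroup p P → P ≤ N.comap (QuotientGroup.mk' _) := by
  set f := QuotientGroup.mk' (pPrimeCore p G)
  have hf : Function.Surjective f := QuotientGroup.mk'_surjective _
  have := Subgroup.Normal.map ‹H.Normal› f hf
  have h1 : p ∣ Nat.card (H.map f) := by
    refine (hp.out.dvd_mul.mp (Core.card_map_mk_mul (pPrimeCore p G) H ▸ hd)).resolve_left
      fun h2 => Core.not_dvd_card_pPrimeCore (h2.trans (card_dvd_of_le inf_le_left))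
  have h2 : Nontrivial (H.map f) := Finite.one_lt_card_iff_nontrivial.mp
    (hp.out.one_lt.trans_le (Nat.le_of_dvd Nat.card_pos h1))
  have h3 : pCore p (H.map f) ≠ ⊥ := by
    refine (Coprime.pCore_ne_bot_or (Coprime.isPSolvable_of_surjective hs (f.subgroupMap H)
      (f.subgroupMap_surjective H))).resolve_right (not_not.mpr ?_)
    have := Core.map_pPrimeCore_subtype_le (p := p) (H.map f)
    rw [Core.pPrimeCore_quotient_pPrimeCore, le_bot_iff] at this
    exact (map_eq_bot_iff_of_injective _ (subtype_injective _)).mp this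
  have h4 : pCore p (G ⧸ pPrimeCore p G) ≠ ⊥ := fun h4 => h3 (by
    have := Core.map_pCore_subtype_le (p := p) (H.map f)
    rw [h4, le_bot_iff] at this
    exact (map_eq_bot_iff_of_injective _ (subtype_injective _)).mp this)
  obtain ⟨N, hN, hN'⟩ := Core.exists_isMinNormal_le h4
  have := hN.normal
  have h5 := (Core.isPGroup_pCore p).to_le hN'
  refine ⟨N, this, hN.isElementaryAbelian_of_isPGroup h5, fun P hP => h.le_of_normal hr ?_ hP⟩
  rw [Core.card_comap_mk]
  refine Dvd.dvd.mul_left ?_ _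
  simpa using mul_card_dvd_of_lt h5 (bot_lt_iff_ne_bot.mpr hN.ne_bot)

theorem ConjAbP.isElementaryAbelian (h : ConjAbP p G) (hr : ¬ PRankLE p 1 G) {H : Subgroup G}
    [H.Normal] (hs : IsPSolvable p H) (hd : p ∣ Nat.card H) {P : Subgroup G}
    (hP : IsPGroup p P) : IsElementaryAbelian p P := by
  obtain ⟨N, -, hN, hN'⟩ := h.exists_le_comap hr hs hd
  refine ⟨isMulCommutative_of_map_of_inf_ker (isMulCommutative_of_le hN.1
    (map_le_iff_le_comap.mpr (hN' P hP))) ?_, fun x hx => h.pow_eq_one hr hP hx⟩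
  rw [QuotientGroup.ker_mk']
  exact Core.inf_eq_bot_of_isPGroup_of_coprime hP (Core.coprime_card_pPrimeCore p)

omit hp [Finite G] in
theorem eq_of_mul_eq_mul_of_coprime {a b c d : ℕ} (h : a * b = c * d) (h1 : a.Coprime d)
    (h2 : c.Coprime b) : a = c :=
  Nat.dvd_antisymm (h1.dvd_of_dvd_mul_right ⟨b, h.symm⟩) (h2.dvd_of_dvd_mul_right ⟨d, h⟩)

omit hp in
/-- Lifting an abelian subgroup of a quotient to an abelian subgroup of controlled order. -/
theorem exists_comm_lift {H : Type*} [Group H] {f : G →* H} (hf : Function.Surjective f)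
    (hq : ∀ q : ℕ, q.Prime → q ∣ Nat.card f.ker → q ∣ Nat.card H →
      ∀ Q : Subgroup G, IsPGroup q Q → IsCyclic Q) {A : Subgroup H} (hA : IsMulCommutative A) :
    ∃ B : Subgroup G, IsMulCommutative B ∧ B.map f = A ∧
      (∀ q : ℕ, q.Prime → q ∣ Nat.card B → q ∣ Nat.card A) ∧
      ∀ q : ℕ, q.Prime → q ∣ Nat.card A → ¬ q ∣ B.relIndex f.ker := by
  have : Finite H := Finite.of_surjective f hf
  obtain ⟨B, -, hB, hmin⟩ := Core.exists_minimal_le (P := fun B : Subgroup G => B.map f = A)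
    (map_comap_eq_self_of_surjective hf A)
  have hF : f.ker.subgroupOf B ≤ frattini B := by
    refine Core.le_frattini_iff_forall_sup.mpr fun K hK => ?_
    have h1 : (K.map B.subtype).map f = A := by
      rw [← hB, ← sup_bot_eq ((K.map B.subtype).map f), ← (Subgroup.map_eq_bot_iff _).mpr
        (inf_le_left : f.ker ⊓ B ≤ f.ker), ← subgroupOf_map_subtype, ← Subgroup.map_sup,
        ← Subgroup.map_sup, hK, ← MonoidHom.range_eq_map, range_subtype]
    have h2 := hmin _ h1 (map_subtype_le K)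
    exact map_injective B.subtype_injective (by rw [h2, ← MonoidHom.range_eq_map, range_subtype])
  have hi : (f.ker.subgroupOf B).index = Nat.card A := by
    rw [← hB]; exact relIndex_ker B f
  have h1 : ∀ q : ℕ, q.Prime → q ∣ Nat.card B → q ∣ Nat.card A := fun q hq h =>
    hi ▸ Core.dvd_index_of_le_frattini hF hq h
  have hn : Group.IsNilpotent B := by
    refine Core.isNilpotent_iff_commutator_le_frattini.mpr (le_trans ?_ hF)
    rw [_root_.commutator_def, ← map_le_map_iff_of_injective B.subtype_injective, map_commutator,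
      ← MonoidHom.range_eq_map, range_subtype, subgroupOf_map_subtype]
    refine le_inf ?_ (Subgroup.commutator_le_self B)
    rw [← Subgroup.map_eq_bot_iff, map_commutator, hB, ← isMulCommutative_iff_commutator_eq_bot]
    exact hA
  refine ⟨B, isMulCommutative_of_nilpotent hn fun q hq' Q hQ hQ' => ?_, hB, h1,
    fun q hq' hd hd' => ?_⟩
  · have := Fact.mk hq'
    by_cases hb : Q = ⊥
    · subst hb; infer_instance
    by_cases h2 : q ∣ Nat.card f.ker
    · have h3 : q ∣ Nat.card Q := by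
        simpa using mul_card_dvd_of_lt hQ' (bot_lt_iff_ne_bot.mpr hb)
      have := hq q hq' h2 ((h1 q hq' (h3.trans (card_dvd_of_le hQ))).trans
        (card_subgroup_dvd_card A)) Q hQ'
      infer_instance
    · exact isMulCommutative_of_map_of_inf_ker (isMulCommutative_of_le hA (hB ▸ map_mono hQ))
        (Core.inf_eq_bot_of_isPGroup_of_coprime hQ' ((Nat.Prime.coprime_iff_not_dvd hq').mpr h2).symm)
  · have := Fact.mk hq'
    obtain ⟨Q, hQ⟩ := Coprime.exists_isSylowIn q B
    obtain ⟨R, hR, hQR⟩ := Coprime.exists_isSylowIn_ge (le_top : Q ≤ ⊤) hQ.2.1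
    have := hq q hq' (hd'.trans (relIndex_dvd_card _ _)) (hd.trans (card_subgroup_dvd_card A))
      R hR.2.1
    have h2 := hR.inf_of_le_normalizer (N := f.ker) le_top Subgroup.le_normalizer_of_normal
    rcases le_total_of_isCyclic hR.2.1 hQR (inf_le_left : R ⊓ f.ker ≤ R) with h3 | h3
    · have h4 := (hQ.map f).2.2
      rw [(Subgroup.map_eq_bot_iff _).mpr (h3.trans inf_le_right), hB, relIndex_bot_left] at h4
      exact h4 hd
    · exact h2.2.2 (hd'.trans (relIndex_dvd_of_le_left _ (h3.trans hQ.1)))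

omit hp in
theorem ConjAb.of_surjective_of_isCyclic (h : ConjAb G) {H : Type*} [Group H] {f : G →* H}
    (hf : Function.Surjective f) (hq : ∀ q : ℕ, q.Prime → q ∣ Nat.card f.ker → q ∣ Nat.card H →
      ∀ Q : Subgroup G, IsPGroup q Q → IsCyclic Q) : ConjAb H := fun A B hA hB hc => by
  obtain ⟨A', a1, a2, a3, a4⟩ := exists_comm_lift hf hq hA
  obtain ⟨B', b1, b2, b3, b4⟩ := exists_comm_lift hf hq hB
  have h1 : Nat.card ↥(A' ⊓ f.ker) = Nat.card ↥(B' ⊓ f.ker) := by
    refine eq_of_mul_eq_mul_of_coprime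
      ((card_inf_mul_relIndex A' f.ker).trans (card_inf_mul_relIndex B' f.ker).symm)
      (Core.coprime_iff_forall_prime.mpr fun q hq hd => b4 q hq ?_)
      (Core.coprime_iff_forall_prime.mpr fun q hq hd => a4 q hq ?_)
    · exact hc ▸ a3 q hq (hd.trans (card_dvd_of_le inf_le_left))
    · exact hc ▸ b3 q hq (hd.trans (card_dvd_of_le inf_le_left))
  obtain ⟨g, hg⟩ := h A' B' a1 b1 (by
    rw [← Core.card_inf_ker_mul_card_map f A', ← Core.card_inf_ker_mul_card_map f B', a2, b2,
      inf_comm _ A', inf_comm _ B', h1, hc])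
  exact ⟨f g, by rw [← a2, ← b2, hg, Coprime.map_map_conj]⟩

omit hp in
theorem ConjAb.of_surjective_of_odd (h : ConjAb G) {H : Type*} [Group H] {f : G →* H}
    (hf : Function.Surjective f) (ho : Odd (Nat.card f.ker)) : ConjAb H := by
  refine h.of_surjective_of_isCyclic hf fun q hq h1 h2 Q hQ => ?_
  have := Fact.mk hq
  rcases (h.conjAbP q).cases hQ with h3 | ⟨rfl, -⟩ | ⟨h3, -⟩
  · exact h3
  · exact absurd (even_iff_two_dvd.mpr h1) (Nat.not_even_iff_odd.mpr ho)
  · refine absurd ?_ ((h.conjAbP q).not_dvd_index h3 h1)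
    rwa [index_ker, MonoidHom.range_eq_top.mpr hf, card_top]

omit hp [Finite G] in
theorem le_center_of_normal_of_card_le_two {N : Subgroup G} [hN : N.Normal] [Finite N]
    (h : Nat.card N ≤ 2) : N ≤ center G := fun n hn => Subgroup.mem_center_iff.mpr fun g => by
  rcases h.eq_or_lt with h | h
  · exact mul_inv_eq_iff_eq_mul.mp
      (eq_of_mem_of_card_two h (hN.conj_mem n hn g) hn (by simp [mul_inv_eq_iff_eq_mul]))
  · rw [(card_le_one_iff_eq_bot N).mp (by omega), mem_bot] at hn
    simp [hn]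

omit hp in
theorem ConjAbP.le_of_normal_of_sq_ne_one (h : ConjAbP 2 G) {Q M : Subgroup G} [M.Normal]
    (hQ : IsPGroup 2 Q) (hc : ¬ IsCyclic Q) {m : G} (hm : m ∈ M) {k : ℕ} (ho : orderOf m = 2 ^ k)
    (h2 : m ^ 2 ≠ 1) : Q ≤ M := by
  have hk : 2 ≤ k := by
    by_contra! hk
    exact h2 (orderOf_dvd_iff_pow_eq_one.mp (ho ▸ (pow_dvd_pow 2 (by omega)).trans (pow_one 2).dvd))
  obtain ⟨k, rfl⟩ := Nat.exists_eq_add_of_le' hk
  have h3 : orderOf (m ^ 2 ^ k) = 2 ^ 2 := by
    rw [orderOf_pow_of_dvd (by positivity) (ho ▸ pow_dvd_pow 2 (by omega)), ho,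
      pow_add, Nat.mul_div_cancel_left _ (by positivity)]
  rcases h.cases hQ with h1 | ⟨-, n, x, y, h1, h4, h5⟩ | ⟨hr, -⟩
  · exact absurd h1 hc
  · have key : ∀ g : Q, IsDQS n x g → g ^ 2 = x ^ 2 ^ (n - 1) → g ∈ M.subgroupOf Q :=
      fun g hg hg' => h.mem_of_orderOf (Subgroup.pow_mem _ hm _) h3
        ((Subgroup.orderOf_coe g).trans (hg.orderOf_eq_four hg'))
    have h6 : (x * y) ^ 2 = x ^ 2 ^ (n - 1) := by
      rw [← h5, sq, sq, show x * y * (x * y) = x * (y * x * y⁻¹) * (y * y) by group, h4]; group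
    have h7 := key y h1 h5
    have h8 := key (x * y) ⟨h1.1, h1.2.1, h1.2.2.1, fun h => h1.2.2.2.1
      ((Subgroup.mul_mem_cancel_left _ (mem_zpowers x)).mp h), Or.inr (Or.inl ⟨by
        rw [show x * y * x * (x * y)⁻¹ = x * (y * x * y⁻¹) * x⁻¹ by group, h4]; group, h6⟩)⟩ h6
    rw [← subgroupOf_eq_top, eq_top_iff, ← h1.sup_eq_top h1.2.2.2.1]
    exact sup_le (zpowers_le.mpr h7) (zpowers_le.mpr ((Subgroup.mul_mem_cancel_right _ h7).mp h8))
  · refine h.le_of_normal hr ?_ hQ
    exact ((dvd_pow_self 2 (by omega)).trans ho.symm.dvd).trans (Subgroup.orderOf_dvd_natCard M hm)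

omit hp in
theorem ConjAbP.card_eq_eight_aux (h : ConjAbP 2 G) [Group.IsSolvable G] (h0 : pPrimeCore 2 G = ⊥)
    {Q : Subgroup G} (hQ : IsPGroup 2 Q) (hc : ¬ IsCyclic Q) {u : G} (hu : u ∈ Q)
    (hu' : u ^ 2 ≠ 1) : Nat.card Q = 2 ^ 3 := by
  have hr : PRankLE 2 1 G := by
    by_contra hr
    exact hu' (h.pow_eq_one hr hQ hu)
  have hR := Core.isPGroup_pCore (G := G) 2
  by_cases h1 : ∀ m ∈ pCore 2 G, m ^ 2 = 1
  · have h2 := hr _ (isMulCommutative_of_sq_eq_one h1) h1
    have h3 : Q ≤ pCore 2 G := le_trans (fun g _ => mem_centralizer_iff.mpr fun m hm =>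
      (Subgroup.mem_center_iff.mp (le_center_of_normal_of_card_le_two h2 hm) g).symm)
      (Core.centralizer_pCore_le h0)
    exact absurd (h1 u (h3 hu)) hu'
  push Not at h1
  obtain ⟨m, hm, hm'⟩ := h1
  obtain ⟨k, hk⟩ := Core.exists_orderOf_eq_pow_of_mem hR hm
  have h2 := h.le_of_normal_of_sq_ne_one hQ hc hm hk hm'
  have h3 : ¬ IsCyclic (pCore 2 G) := fun _ => hc (Subgroup.isCyclic_of_le h2)
  refine le_antisymm ((card_le_of_le h2).trans ?_) ?_
  · rcases h.cases hR with h1 | ⟨-, n, x, y, h1, -, -⟩ | ⟨hr', -⟩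
    · exact absurd h1 h3
    · rw [h1.2.1]
      refine Nat.pow_le_pow_right two_pos (Nat.succ_le_succ (not_lt.mp fun hn => ?_))
      have h4 := h1.orderOf_pow (m := 1) (by omega)
      have h5 := h.le_of_normal_of_sq_ne_one (M := (commutator (pCore 2 G)).map (Subgroup.subtype _))
        hR h3
        (m := (x ^ 2 ^ 1 : pCore 2 G)) (mem_map_of_mem _ (h1.commutator_eq ▸ mem_zpowers _))
        (by rw [Subgroup.orderOf_coe, h4]) (fun h5 => by
          have := Nat.le_of_dvd two_pos (orderOf_dvd_of_pow_eq_one h5)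
          rw [Subgroup.orderOf_coe, h4] at this
          have := (Nat.pow_le_pow_iff_right one_lt_two).mp (this.trans (pow_one 2).ge)
          omega)
      have h6 := (mem_map_iff_mem (subtype_injective _)).mp (h5 y.2)
      rw [h1.commutator_eq] at h6
      exact h1.2.2.2.1 (zpowers_le.mpr (npow_mem_zpowers x 2) h6)
    · exact absurd hr hr'
  · rcases h.cases hQ with h1 | ⟨-, n, x, y, h1, -, -⟩ | ⟨hr', -⟩
    · exact absurd h1 hc
    · rw [h1.2.1]
      exact Nat.pow_le_pow_right two_pos (Nat.succ_le_succ h1.1)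
    · exact absurd hr hr'

omit hp in
/-- In a solvable group with conjugate abelian subgroups, a quaternion Sylow subgroup has order 8. -/
theorem ConjAb.card_eq_eight (h : ConjAb G) [Group.IsSolvable G] (hr : PRankLE 2 1 G)
    {Q : Subgroup G} (hQ : IsPGroup 2 Q) (hc : ¬ IsCyclic Q) : Nat.card Q = 2 ^ 3 := by
  set f := QuotientGroup.mk' (pPrimeCore 2 G)
  have hk : f.ker = pPrimeCore 2 G := QuotientGroup.ker_mk' _
  have h1 := h.of_surjective_of_odd (QuotientGroup.mk'_surjective (pPrimeCore 2 G))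
    (by rw [hk]; exact Core.odd_card_oddCore)
  have h2 : f.ker ⊓ Q = ⊥ := by
    rw [hk, inf_comm]
    exact Core.inf_eq_bot_of_isPGroup_of_coprime hQ (Core.coprime_card_pPrimeCore 2)
  have h3 := Core.card_inf_ker_mul_card_map f Q
  rw [h2, card_bot, one_mul] at h3
  have h4 : Function.Injective (f.subgroupMap Q) := by
    refine (MonoidHom.ker_eq_bot_iff _).mp (eq_bot_iff.mpr fun x hx => Subtype.ext ?_)
    exact h2.le ⟨congrArg Subtype.val hx, x.2⟩
  obtain ⟨u, hu, hu'⟩ : ∃ u ∈ Q, u ^ 2 ≠ 1 := by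
    by_contra! h5
    exact hc (isCyclic_of_card_le_prime hQ (hr _ (isMulCommutative_of_sq_eq_one h5) h5))
  refine h3 ▸ (h1.conjAbP 2).card_eq_eight_aux Core.pPrimeCore_quotient_pPrimeCore (hQ.map f)
    (fun _ => hc (isCyclic_of_injective _ h4)) (mem_map_of_mem f hu) fun h5 => hu' ?_
  exact h2.le ⟨by rw [← map_pow] at h5; exact h5, Subgroup.pow_mem _ hu 2⟩

omit hp in
theorem ConjAb.of_surjective_of_card_two (h : ConjAb G) [Group.IsSolvable G] (hr : PRankLE 2 1 G)
    {H : Type*} [Group H] {f : G →* H} (hf : Function.Surjective f) (h2 : Nat.card f.ker = 2) :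
    ConjAb H := fun A B hA hB hc => by
  have hZ := le_center_of_normal_of_card_le_two h2.le
  have key : ∀ A : Subgroup H, IsMulCommutative A → ∃ Q L : Subgroup G, IsPGroup 2 Q ∧
      (Nat.card L).Coprime 2 ∧ Q ⊔ L = A.comap f ∧ IsMulCommutative L ∧
      Q ≤ centralizer (L : Set G) ∧ Nat.card Q * Nat.card L = 2 * Nat.card A := fun A hA => by
    have h3 : ⁅A.comap f, A.comap f⁆ ≤ f.ker := by
      rw [← Subgroup.map_eq_bot_iff, map_commutator, map_comap_eq_self_of_surjective hf]
      exact isMulCommutative_iff_commutator_eq_bot.mp hA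
    have hn : Group.IsNilpotent (A.comap f) :=
      Core.isNilpotent_of_commutator_commutator_eq_bot (commutator_eq_bot_iff_le_centralizer.mpr
        (h3.trans (hZ.trans (center_le_centralizer _))))
    obtain ⟨Q, L, hQ, hL, hs⟩ := Cls.exists_sup_of_nilpotent hn 2
    have h4 := Cls.le_centralizer_of_coprime_of_nilpotent hn (le_sup_left.trans hs.le)
      (le_sup_right.trans hs.le) (Core.coprime_card_of_isPGroup hQ hL)
    refine ⟨Q, L, hQ, hL, hs, isMulCommutative_of_map_of_inf_ker (isMulCommutative_of_le hA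
      (map_le_iff_le_comap.mpr (le_sup_right.trans hs.le)))
      (Core.inf_eq_bot_of_coprime_card (h2 ▸ hL)), h4, ?_⟩
    rw [← Core.card_sup_of_disjoint (h4.trans (centralizer_le_normalizer _))
      (Core.inf_eq_bot_of_isPGroup_of_coprime hQ hL), hs, Core.card_comap_of_surjective hf, h2]
  obtain ⟨Q, L, a1, a2, a3, a4, a5, a6⟩ := key A hA
  obtain ⟨Q', L', b1, b2, b3, b4, b5, b6⟩ := key B hB
  have h3 : Nat.card Q = Nat.card Q' := eq_of_mul_eq_mul_of_coprime (by rw [a6, b6, hc])
    (Core.coprime_card_of_isPGroup a1 b2) (Core.coprime_card_of_isPGroup b1 a2)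
  have h4 : Nat.card L = Nat.card L' :=
    Nat.eq_of_mul_eq_mul_left Nat.card_pos (by rw [a6, h3, b6, hc])
  suffices ∃ g, B.comap f = (A.comap f).map (MulAut.conj g).toMonoidHom by
    obtain ⟨g, hg⟩ := this
    exact ⟨f g, by rw [← map_comap_eq_self_of_surjective hf B, hg, Coprime.map_map_conj,
      map_comap_eq_self_of_surjective hf]⟩
  rw [← a3, ← b3]
  by_cases h5 : IsCyclic Q ∧ IsCyclic Q'
  · obtain ⟨_, _⟩ := h5
    refine h _ _ (isMulCommutative_sup inferInstance a4 a5)
      (isMulCommutative_sup inferInstance b4 b5) ?_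
    rw [a3, b3, Core.card_comap_of_surjective hf, Core.card_comap_of_surjective hf, hc]
  have h6 : Nat.card Q = 2 ^ 3 := by
    by_cases h6 : IsCyclic Q
    · exact h3 ▸ h.card_eq_eight hr b1 fun h7 => h5 ⟨h6, h7⟩
    · exact h.card_eq_eight hr a1 h6
  have h7 : ∀ Q K : Subgroup G, IsPGroup 2 Q → Nat.card Q = 2 ^ 3 → Q ≤ K →
      Coprime.IsSylowIn 2 Q K := fun R K hR hR' hK =>
    Coprime.isSylowIn_of_maximal hK hR fun U hU _ hU' => by
      obtain ⟨S, hS, hS'⟩ := Coprime.exists_isSylowIn_ge (le_top : U ≤ ⊤) hU'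
      have h8 : ¬ IsCyclic S := fun _ => by
        obtain ⟨g, -, hg⟩ := hS.exists_le_conj (le_top : Q ≤ ⊤) a1
        obtain ⟨g', -, hg'⟩ := hS.exists_le_conj (le_top : Q' ≤ ⊤) b1
        have := isCyclic_of_surjective _ ((MulAut.conj g).toMonoidHom.subgroupMap_surjective S)
        have := isCyclic_of_surjective _ ((MulAut.conj g').toMonoidHom.subgroupMap_surjective S)
        exact h5 ⟨Subgroup.isCyclic_of_le hg, Subgroup.isCyclic_of_le hg'⟩
      exact le_antisymm (hS'.trans (eq_of_le_of_card_eq (hU.trans hS')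
        (hR'.trans (h.card_eq_eight hr hS.2.1 h8).symm)).ge) hU
  obtain ⟨g, hg⟩ := h L L' a4 b4 h4
  have h8 : Q.map (MulAut.conj g).toMonoidHom ≤ centralizer (L' : Set G) := by
    rw [← commutator_eq_bot_iff_le_centralizer, hg, ← map_commutator,
      commutator_eq_bot_iff_le_centralizer.mpr a5, Subgroup.map_bot]
  obtain ⟨c, hc, hc'⟩ := (h7 _ _ (a1.map _) ((Coprime.card_map_conj _ _).trans h6) h8).exists_conj
    (h7 _ _ b1 (h3 ▸ h6) b5)
  refine ⟨c * g, ?_⟩
  rw [← Coprime.map_conj_map_conj, Subgroup.map_sup, Subgroup.map_sup, ← hc', ← hg,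
    Coprime.map_conj_eq_of_mem_normalizer (centralizer_le_normalizer _ hc)]

omit hp in
theorem ConjAb.quotient_of_isMinNormal (h : ConjAb G) [hs : Group.IsSolvable G] {N : Subgroup G}
    [N.Normal] (hN : Core.IsMinNormal N) : ConjAb (G ⧸ N) := by
  obtain ⟨p, hp, hN'⟩ := hN.exists_isElementaryAbelian inferInstance
  have := Fact.mk hp
  have hk := QuotientGroup.ker_mk' N
  have h1 := IsElementaryAbelian.isPGroup hN'
  by_cases h2 : p = 2 ∧ PRankLE 2 1 G
  · obtain ⟨rfl, h2⟩ := h2
    refine h.of_surjective_of_card_two h2 (QuotientGroup.mk'_surjective N) ?_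
    by_contra h3
    exact not_rank_le_one_of_lt hN' (hk ▸ h3) hN.ne_bot h2
  refine h.of_surjective_of_isCyclic (QuotientGroup.mk'_surjective N) fun q hq h3 h4 Q hQ => ?_
  rw [hk] at h3
  obtain rfl := Core.isPGroup_iff_forall_prime_dvd.mp h1 q hq h3
  by_cases hr : PRankLE q 1 G
  · exact isCyclic_of_rank_le_one_of_odd hQ (fun h5 => h2 ⟨h5, h5 ▸ hr⟩) (pRankLE_subgroup hr Q)
  · exact absurd h4 ((h.conjAbP q).not_dvd_index hr h3)

universe u v in
omit hp in
theorem ConjAb.of_surjective (G : Type u) [Group G] [Finite G] : ConjAb G → Group.IsSolvable G →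
    ∀ {H : Type v} [Group H] {f : G →* H}, Function.Surjective f → ConjAb H := by
  refine Core.induction_on_card (P := fun G _ _ => ConjAb G → Group.IsSolvable G →
    ∀ {H : Type v} [Group H] {f : G →* H}, Function.Surjective f → ConjAb H) ?_ G
  intro G _ _ ih h hs H _ f hf
  by_cases hb : f.ker = ⊥
  · exact h.of_surjective_of_odd hf (by rw [hb, card_bot]; exact odd_one)
  obtain ⟨N, hN, hN'⟩ := Core.exists_isMinNormal_le hb
  have := hN.normal
  exact ih _ (Core.card_quotient_lt hN.ne_bot) (h.quotient_of_isMinNormal hN) inferInstance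
    (QuotientGroup.lift_surjective_of_surjective N f hf hN')

end Cfsg.Agent.PGrp
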