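import Mathlib
import Cfsg.Agent.Lib.PGrp.ConjOrder2

/-!
Groups in which (abelian, or prime power order) subgroups of equal order are conjugate, part 3:
from prime power order to all subgroups.
-/

namespace Cfsg.Agent.PGrp

open Subgroup
open scoped commutatorElement

universe u

/-- All `p`-subgroups are cyclic. -/
def CycP (p : ℕ) (G : Type*) [Group G] : Prop := ∀ P : Subgroup G, IsPGroup p P → IsCyclic P

variable {G : Type*} [Group G] [Finite G] {p : ℕ} [hp : Fact p.Prime]

theorem map_eq_of_isSylowIn_comap {H : Type*} [Group H] {f : G →* H} (hf : Function.Surjective f)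
    {A : Subgroup H} (hA : IsPGroup p A) {P : Subgroup G} (hP : Coprime.IsSylowIn p P (A.comap f)) :
    P.map f = A := by
  have : Finite H := Finite.of_surjective f hf
  have h := hP.map f
  rw [map_comap_eq_self_of_surjective hf] at h
  exact (h.eq_of_le h.1 le_rfl hA).symm

theorem cycP_of_sylow (h : ∀ P : Sylow p G, IsCyclic P) : CycP p G := fun P hP => by
  obtain ⟨Q, hQ⟩ := hP.exists_le_sylow
  have := h Q
  exact Subgroup.isCyclic_of_le hQ

theorem CycP.of_surjective (h : CycP p G) {H : Type*} [Group H] {f : G →* H}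
    (hf : Function.Surjective f) : CycP p H := fun A hA => by
  obtain ⟨P, hP⟩ := Coprime.exists_isSylowIn p (A.comap f)
  have := h P hP.2.1
  exact map_eq_of_isSylowIn_comap hf hA hP ▸ isCyclic_of_surjective _ (f.subgroupMap_surjective P)

omit [Finite G] hp in
theorem CycP.subgroup (h : CycP p G) (H : Subgroup G) : CycP p H := fun A hA => by
  have := h _ (hA.map H.subtype)
  exact (A.equivMapOfInjective _ H.subtype_injective).isCyclic.mpr this

theorem cycP_of_not_dvd (h : ¬ p ∣ Nat.card G) : CycP p G := fun A hA => by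
  obtain rfl : A = ⊥ := by
    by_contra hb
    exact h ((by simpa using mul_card_dvd_of_lt hA (bot_lt_iff_ne_bot.mpr hb) : p ∣ Nat.card A).trans
      (card_subgroup_dvd_card A))
  infer_instance

theorem CycP.pRankLE (h : CycP p G) : PRankLE p 1 G := fun A hA hA' => by
  have := h A (IsElementaryAbelian.isPGroup ⟨hA, hA'⟩)
  exact (card_le_of_isCyclic_of_pow_eq_one fun x : A => Subtype.ext (hA' x x.2)).trans
    (pow_one p).ge

theorem CycP.conjP (h : CycP p G) : ConjP p G := fun A B hA hB hc => by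
  obtain ⟨P, hP, hBP⟩ := Coprime.exists_isSylowIn_ge (le_top : B ≤ ⊤) hB
  obtain ⟨g, -, hg⟩ := hP.exists_le_conj (le_top : A ≤ ⊤) hA
  have := h P hP.2.1
  refine ⟨g⁻¹, eq_of_card_eq_of_isCyclic hBP ?_ (by rw [Coprime.card_map_conj, hc])⟩
  refine (map_mono hg).trans ?_
  rw [Coprime.map_conj_map_conj, inv_mul_cancel, Coprime.map_conj_one]

theorem ConjP.of_surjective (h : ConjP p G) {H : Type*} [Group H] {f : G →* H}
    (hf : Function.Surjective f) : ConjP p H := fun A B hA hB hc => by
  obtain ⟨P, hP⟩ := Coprime.exists_isSylowIn p (A.comap f)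
  obtain ⟨Q, hQ⟩ := Coprime.exists_isSylowIn p (B.comap f)
  obtain ⟨g, hg⟩ := h P Q hP.2.1 hQ.2.1 (by
    rw [hP.card_eq, hQ.card_eq, Core.card_comap_of_surjective hf, Core.card_comap_of_surjective hf,
      hc])
  exact ⟨f g, by rw [← map_eq_of_isSylowIn_comap hf hA hP, ← map_eq_of_isSylowIn_comap hf hB hQ,
    hg, Coprime.map_map_conj]⟩

omit hp [Finite G] in
theorem ConjAll.exists_of_le {S A B : Subgroup G} (h : ConjAll S) (hA : A ≤ S) (hB : B ≤ S)
    (hc : Nat.card A = Nat.card B) : ∃ s ∈ S, B = A.map (MulAut.conj s).toMonoidHom := by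
  obtain ⟨s, hs⟩ := h (A.subgroupOf S) (B.subgroupOf S)
    (by rw [Core.card_subgroupOf_of_le hA, Core.card_subgroupOf_of_le hB, hc])
  refine ⟨s, s.2, ?_⟩
  rw [← map_subgroupOf_eq_of_le hB, hs, Coprime.map_map_conj, map_subgroupOf_eq_of_le hA]
  rfl

omit hp [Finite G] in
theorem eq_map_conj_of_map_mk {N A B : Subgroup G} [N.Normal] {g : G}
    (h : B.map (QuotientGroup.mk' N) =
      (A.map (QuotientGroup.mk' N)).map (MulAut.conj (g : G ⧸ N)).toMonoidHom) :
    B ⊔ N = A.map (MulAut.conj g).toMonoidHom ⊔ N := by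
  rw [← Core.comap_map_mk, ← Core.comap_map_mk, Coprime.map_map_conj, h]
  rfl

theorem conjAll_of_card_prime (h : ConjAbP p G) {N : Subgroup G} [N.Normal] (hN : Nat.card N = p)
    (hq : ConjAll (G ⧸ N)) : ConjAll G := fun A B hc => by
  have h1 := Core.card_map_mk_mul N A
  have h2 := Core.card_map_mk_mul N B
  by_cases hd : p ∣ Nat.card A
  · have hA := h.le_of_card_prime hN hd
    have hB := h.le_of_card_prime hN (hc ▸ hd)
    rw [inf_eq_left.mpr hA] at h1
    rw [inf_eq_left.mpr hB] at h2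
    obtain ⟨g, hg⟩ := hq _ _ (Nat.eq_of_mul_eq_mul_left Nat.card_pos (h1.trans (hc.trans h2.symm)))
    obtain ⟨g, rfl⟩ := QuotientGroup.mk_surjective g
    have h3 := eq_map_conj_of_map_mk hg
    rw [sup_eq_left.mpr hB, sup_eq_left.mpr
      ((Coprime.map_conj_eq_of_normal N g).ge.trans (map_mono hA))] at h3
    exact ⟨g, h3⟩
  · have hA : (Nat.card N).Coprime (Nat.card A) := hN ▸ hp.out.coprime_iff_not_dvd.mpr hd
    rw [Core.inf_eq_bot_of_coprime_card hA, card_bot, one_mul] at h1
    rw [Core.inf_eq_bot_of_coprime_card (hc ▸ hA), card_bot, one_mul] at h2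
    obtain ⟨g, hg⟩ := hq _ _ (h1.trans (hc.trans h2.symm))
    obtain ⟨g, rfl⟩ := QuotientGroup.mk_surjective g
    have : IsCyclic N := isCyclic_of_prime_card hN
    obtain ⟨n, -, hn⟩ := Coprime.sz_eq_conj (N := N) (A := A.map (MulAut.conj g).toMonoidHom)
      (B := B) Subgroup.le_normalizer_of_normal
      (le_sup_left.trans ((eq_map_conj_of_map_mk hg).trans (sup_comm _ _)).le)
      (by rwa [Coprime.card_map_conj]) (by rw [Coprime.card_map_conj, hc]) (Or.inl inferInstance)
    exact ⟨n * g, by rw [hn, Coprime.map_conj_map_conj]⟩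

omit hp in
theorem conjAll_of_split {E H : Subgroup G} [E.Normal] (hE : IsMulCommutative E) (hs : E ⊔ H = ⊤)
    (hcop : (Nat.card E).Coprime (Nat.card H))
    (h1 : ∀ A B : Subgroup G, A ≤ E → B ≤ E → Nat.card A = Nat.card B →
      ∃ g : G, B = A.map (MulAut.conj g).toMonoidHom)
    (h2 : ∀ W : Subgroup G, W ≤ E → ConjAll ↥(H ⊓ normalizer (W : Set G))) : ConjAll G := by
  have hfix : ∀ W : Subgroup G, W ≤ E → ∀ e ∈ E, W.map (MulAut.conj e).toMonoidHom = W :=
    fun W hW e he => Coprime.map_conj_eq_of_mem_normalizer (centralizer_le_normalizer _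
      (mem_centralizer_iff.mpr fun w hw => isMulCommutative_iff_mem.mp hE w (hW hw) e he))
  have key : ∀ A : Subgroup G, ∃ (W K : Subgroup G) (e : G), W ≤ E ∧
      K ≤ H ⊓ normalizer (W : Set G) ∧ A = (W ⊔ K).map (MulAut.conj e).toMonoidHom ∧
      Nat.card W * Nat.card K = Nat.card A := fun A => by
    have h3 : (E ⊓ A).relIndex A ∣ Nat.card H := by
      rw [inf_relIndex_right]
      refine (relIndex_dvd_index_of_normal E A).trans ?_
      rw [← relIndex_top_right, ← hs, relIndex_sup_left]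
      exact relIndex_dvd_card _ _
    have h4 : A ≤ normalizer ((E ⊓ A : Subgroup G) : Set G) :=
      Core.le_normalizer_inf Subgroup.le_normalizer_of_normal le_normalizer
    obtain ⟨K, hK, hK1, -, hK2⟩ := Coprime.sz_exists (inf_le_right : E ⊓ A ≤ A) h4
      ((hcop.coprime_dvd_left (card_dvd_of_le inf_le_left)).coprime_dvd_right h3)
    obtain ⟨n, hn, hn'⟩ := Coprime.sz_le_conj (N := E) (A := H) (B := K)
      Subgroup.le_normalizer_of_normal (hs ▸ le_top) hcop (hcop.coprime_dvd_right (hK2 ▸ h3))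
      (Or.inl (Coprime.isSolvable_of_isMulCommutative hE))
    refine ⟨E ⊓ A, K.map (MulAut.conj n⁻¹).toMonoidHom, n, inf_le_left, le_inf ?_ ?_, ?_, ?_⟩
    · refine (map_mono hn').trans ?_
      rw [Coprime.map_conj_map_conj, inv_mul_cancel, Coprime.map_conj_one]
    · rw [← hfix _ (inf_le_left : E ⊓ A ≤ E) _ (E.inv_mem hn)]
      exact (map_mono (hK.trans h4)).trans (le_normalizer_map _)
    · rw [Subgroup.map_sup, Coprime.map_conj_map_conj, mul_inv_cancel, Coprime.map_conj_one,
        hfix _ inf_le_left _ hn, hK1]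
    · rw [Coprime.card_map_conj, hK2, card_mul_relIndex inf_le_right]
  intro A B hc
  obtain ⟨W, K, a, a1, a2, rfl, a4⟩ := key A
  obtain ⟨W', K', b, b1, b2, rfl, b4⟩ := key B
  have h3 : Nat.card W = Nat.card W' := eq_of_mul_eq_mul_of_coprime (by rw [a4, b4, hc])
    (Coprime.coprime_mono hcop a1 (b2.trans inf_le_left))
    (Coprime.coprime_mono hcop b1 (a2.trans inf_le_left))
  have h4 : Nat.card K = Nat.card K' :=
    Nat.eq_of_mul_eq_mul_left Nat.card_pos (by rw [a4, h3, b4, hc])
  obtain ⟨g, hg⟩ := h1 W W' a1 b1 h3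
  obtain ⟨k, hk, e, he, rfl⟩ := (Coprime.mem_sup_of_le_normalizer' (N := E) (A := H)
    Subgroup.le_normalizer_of_normal).mp (sup_comm E H ▸ hs ▸ mem_top g)
  rw [← Coprime.map_conj_map_conj, hfix W a1 e he] at hg
  obtain ⟨s, hs, hs'⟩ := (h2 W' b1).exists_of_le (A := K.map (MulAut.conj k).toMonoidHom)
    (le_inf ((map_mono (a2.trans inf_le_left)).trans (Coprime.map_conj_eq_of_mem hk).le)
      (hg ▸ (map_mono (a2.trans inf_le_right)).trans (le_normalizer_map _))) b2
    (by rw [Coprime.card_map_conj, h4])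
  refine ⟨b * (s * k) * a⁻¹, ?_⟩
  rw [Coprime.map_conj_map_conj, inv_mul_cancel_right, ← Coprime.map_conj_map_conj _ (s * k),
    ← Coprime.map_conj_map_conj _ k s, Subgroup.map_sup W K, ← hg,
    Subgroup.map_sup W' (K.map (MulAut.conj k).toMonoidHom), ← hs',
    Coprime.map_conj_eq_of_mem_normalizer hs.2]

omit hp in
theorem exists_complement_of_coprime_index {E : Subgroup G} [E.Normal]
    (h : (Nat.card E).Coprime E.index) :
    ∃ H : Subgroup G, E ⊔ H = ⊤ ∧ Nat.card H = E.index := by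
  obtain ⟨H, -, h1, -, h2⟩ := Coprime.sz_exists (le_top : E ≤ ⊤) Subgroup.le_normalizer_of_normal
    (by rwa [relIndex_top_right])
  exact ⟨H, h1, h2.trans (relIndex_top_right E)⟩

omit hp in
theorem conjAll_of_conjP (r : ℕ) (G : Type u) [Group G] [Finite G] : Group.IsSolvable G →
    (∀ p : ℕ, p.Prime → ConjP p G) → (∀ p : ℕ, p.Prime → p ≠ r → CycP p G) → ConjAll G := by
  refine Core.induction_on_card (P := fun G _ _ => Group.IsSolvable G →
    (∀ p : ℕ, p.Prime → ConjP p G) → (∀ p : ℕ, p.Prime → p ≠ r → CycP p G) → ConjAll G) ?_ G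
  intro G _ _ ih hs h hc
  rcases subsingleton_or_nontrivial G with _ | _
  · exact fun A B _ => ⟨1, Subsingleton.elim _ _⟩
  obtain ⟨N, hN⟩ := Core.exists_isMinNormal (G := G)
  have := hN.normal
  obtain ⟨p, hp, hN'⟩ := hN.exists_isElementaryAbelian inferInstance
  have := Fact.mk hp
  have hNp := IsElementaryAbelian.isPGroup hN'
  by_cases h1 : Nat.card N = p
  · refine conjAll_of_card_prime (h p hp).conjAbP h1 (ih _ (Core.card_quotient_lt hN.ne_bot)
      inferInstance (fun q hq => ?_) fun q hq hqr => ?_)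
    · have := Fact.mk hq
      exact (h q hq).of_surjective (QuotientGroup.mk'_surjective N)
    · have := Fact.mk hq
      exact (hc q hq hqr).of_surjective (QuotientGroup.mk'_surjective N)
  have hr := not_rank_le_one_of_lt hN' h1 hN.ne_bot
  have h2 := (h p hp).conjAbP.not_dvd_index hr
    (by simpa using mul_card_dvd_of_lt hNp (bot_lt_iff_ne_bot.mpr hN.ne_bot))
  have h3 := Core.coprime_card_of_isPGroup hNp (hp.coprime_iff_not_dvd.mpr h2).symm
  obtain ⟨H, hH, hH'⟩ := exists_complement_of_coprime_index h3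
  refine conjAll_of_split hN'.1 hH (hH' ▸ h3)
    (fun A B hA hB => h p hp A B (hNp.to_le hA) (hNp.to_le hB)) fun W _ => ?_
  have h4 : ∀ q : ℕ, q.Prime → CycP q ↥(H ⊓ normalizer (W : Set G)) := fun q hq => by
    by_cases hqr : q = r
    · obtain rfl : p = q := by
        by_contra h4
        exact hr (hc p hp (hqr ▸ h4)).pRankLE
      exact cycP_of_not_dvd fun h4 => h2 (hH' ▸ h4.trans (card_dvd_of_le inf_le_left))
    · exact (hc q hq hqr).subgroup _
  refine ih _ (Core.card_lt_of_ne_top fun h5 => h2 ?_) inferInstance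
    (fun q hq => have := Fact.mk hq; (h4 q hq).conjP) fun q hq _ => h4 q hq
  rw [← hH', eq_top_iff.mpr (h5.ge.trans inf_le_left), card_top]
  exact dvd_trans (by simpa using mul_card_dvd_of_lt hNp (bot_lt_iff_ne_bot.mpr hN.ne_bot))
    (card_subgroup_dvd_card N)

end Cfsg.Agent.PGrp
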