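import Mathlib
import Cfsg.Agent.Lib.PGrp.MaxClass
import Cfsg.Agent.Lib.Coprime.SZ
import Cfsg.Agent.Lib.Core.Basic

/-!
Soft subgroups of `p`-groups (Héthelyi).
-/

namespace Cfsg.Agent.PGrp

open Subgroup
open scoped commutatorElement

universe u

/-- A self-centralizing abelian subgroup of index `p` in its normalizer. -/
def IsSoft (p : ℕ) {G : Type*} [Group G] (A : Subgroup G) : Prop :=
  IsMulCommutative A ∧ centralizer (A : Set G) ≤ A ∧ A.relIndex (normalizer (A : Set G)) = p

variable {G : Type*} [Group G] [Finite G] {p : ℕ} [hp : Fact p.Prime]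

omit [Finite G] hp in
theorem comap_normalizer_map_mk {Z A : Subgroup G} [Z.Normal] (h : Z ≤ A) :
    (normalizer ((A.map (QuotientGroup.mk' Z) : Subgroup _) : Set (G ⧸ Z))).comap
      (QuotientGroup.mk' Z) = normalizer (A : Set G) := by
  rw [comap_normalizer_eq_of_surjective _ (QuotientGroup.mk'_surjective Z), Core.comap_map_mk,
    sup_eq_left.mpr h]

omit [Finite G] hp in
theorem relIndex_normalizer_map_mk {Z A : Subgroup G} [Z.Normal] (h : Z ≤ A) :
    (A.map (QuotientGroup.mk' Z)).relIndex (normalizer ((A.map (QuotientGroup.mk' Z) : Subgroup _) :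
      Set (G ⧸ Z))) = A.relIndex (normalizer (A : Set G)) := by
  rw [← comap_normalizer_map_mk h]
  conv_rhs => rw [← sup_eq_left.mpr h, ← Core.comap_map_mk, relIndex_comap, Core.comap_map_mk,
    sup_eq_left.mpr h, map_comap_eq_self_of_surjective (QuotientGroup.mk'_surjective Z)]

theorem eq_of_lt_of_relIndex_eq_prime {A K N : Subgroup G} (h : A.relIndex N = p) (h1 : A < K)
    (h2 : K ≤ N) : K = N := by
  have h3 := relIndex_mul_relIndex A K N h1.le h2
  rw [h] at h3
  rcases (Nat.dvd_prime hp.out).mp (Dvd.intro _ h3) with h4 | h4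
  · exact absurd (relIndex_eq_one.mp h4) h1.not_ge
  · rw [h4, Nat.mul_eq_left hp.out.ne_zero] at h3
    exact le_antisymm h2 (relIndex_eq_one.mp h3)

theorem IsSoft.normalizer_le {A K : Subgroup G} (h : IsSoft p A) (hK : IsPGroup p K) (h1 : A < K) :
    normalizer (A : Set G) ≤ K :=
  (eq_of_lt_of_relIndex_eq_prime h.2.2 (lt_inf_normalizer hK h1) inf_le_right).ge.trans inf_le_left

omit [Finite G] hp in
theorem IsSoft.subgroupOf {A L : Subgroup G} (h : IsSoft p A) (hL : normalizer (A : Set G) ≤ L) :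
    IsSoft p (A.subgroupOf L) := by
  have h1 := le_normalizer.trans hL
  refine ⟨isMulCommutative_iff_mem.mpr fun a ha b hb => Subtype.ext
    (isMulCommutative_iff_mem.mp h.1 _ ha _ hb), fun g hg => h.2.1 (mem_centralizer_iff.mpr
      fun a ha => congrArg Subtype.val (mem_centralizer_iff.mp hg ⟨a, h1 ha⟩ ha)), ?_⟩
  rw [← subgroupOf_normalizer_eq h1, relIndex_subgroupOf hL, h.2.2]

theorem IsSoft.index_normalizer (hG : IsPGroup p G) {A : Subgroup G} (h : IsSoft p A)
    [hn : (normalizer (A : Set G)).Normal] (hN : normalizer (A : Set G) ≠ ⊤) :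
    (normalizer (A : Set G)).index = p := by
  set N := normalizer (A : Set G) with hNd
  obtain ⟨g, hg⟩ := not_forall.mp (mt (eq_top_iff' _).mpr hN)
  set B := A.map (MulAut.conj g).toMonoidHom
  have hAN : A ≤ N := le_normalizer
  have hBN : B ≤ N := (map_mono hAN).trans (Coprime.map_conj_eq_of_normal N g).le
  have h1 : B ⊔ A = N := eq_of_lt_of_relIndex_eq_prime h.2.2 (right_lt_sup.mpr fun h1 => hg
    (mem_normalizer_fintype fun a ha => h1 (mem_map_of_mem _ ha))) (sup_le hBN hAN)
  set Z := N ⊓ centralizer (N : Set G)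
  have hZA : Z ≤ A := inf_le_right.trans ((centralizer_le hAN).trans h.2.1)
  have h2 : B ⊓ A = Z := by
    refine le_antisymm (le_inf (inf_le_left.trans hBN) (le_centralizer_iff.mp (h1.ge.trans
      (sup_le ?_ ?_)))) (le_inf ((Coprime.map_conj_eq_of_normal Z g).ge.trans (map_mono hZA)) hZA)
    · exact fun x hx => mem_centralizer_iff.mpr fun y hy =>
        isMulCommutative_iff_mem.mp (isMulCommutative_map h.1 _) y hy.1 x hx
    · exact fun x hx => mem_centralizer_iff.mpr fun y hy =>
        isMulCommutative_iff_mem.mp h.1 y hy.2 x hx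
  have h3 := Core.card_sup_mul_card_inf_of_le_normalizer hBN
  have h4 := card_mul_relIndex hAN
  rw [h1, h2, Coprime.card_map_conj, ← h4, h.2.2, mul_assoc,
    Nat.mul_right_inj Nat.card_pos.ne'] at h3
  have h5 := Core.card_map_mk_mul Z N
  rw [inf_eq_left.mpr inf_le_left, ← h4, h.2.2, ← h3, mul_comm p, mul_assoc,
    Nat.mul_right_inj Nat.card_pos.ne', ← sq] at h5
  have := hn.map _ (QuotientGroup.mk'_surjective Z)
  have h6 := index_centralizer_le_of_card_sq (hG.to_quotient Z) h5
  refine le_antisymm (le_trans ?_ h6) (Nat.le_of_dvd (Nat.pos_of_ne_zero index_ne_zero_of_finite)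
    (dvd_index_of_ne_top hG hN))
  rw [← index_comap_of_surjective _ (QuotientGroup.mk'_surjective Z)]
  refine index_antitone (le_trans (comap_mono ?_) (comap_normalizer_map_mk hZA).le)
  exact (centralizer_le (map_mono hAN)).trans (centralizer_le_normalizer _)

theorem IsSoft.relIndex_normalizer (hG : IsPGroup p G) {A : Subgroup G} (h : IsSoft p A)
    (hN : normalizer (A : Set G) ≠ ⊤) : (normalizer (A : Set G)).relIndex
      (normalizer ((normalizer (A : Set G) : Subgroup G) : Set G)) = p := by
  have h1 := h.subgroupOf (le_normalizer (H := normalizer (A : Set G)))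
  have h2 := subgroupOf_normalizer_eq
    (le_normalizer.trans (le_normalizer (H := normalizer (A : Set G))))
  have h3 := h1.index_normalizer (hn := by rw [← h2]; exact normal_in_normalizer)
    (hG.to_subgroup _) (by
    rw [← h2, Ne, subgroupOf_eq_top]
    exact (lt_normalizer hG hN).not_ge)
  rwa [← h2] at h3

omit hp [Finite G] in
theorem nilpotencyClass_eq_map_add_one {K : Subgroup G} [Group.IsNilpotent K] (hK : K ≠ ⊥)
    {H : Type*} [Group H] (f : G →* H) (h : f.ker ⊓ K = K ⊓ centralizer (K : Set G)) :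
    Group.nilpotencyClass K = Group.nilpotencyClass (K.map f) + 1 := by
  have := (nontrivial_iff_ne_bot K).mpr hK
  have h1 : (f.subgroupMap K).ker = center K := by
    ext x
    rw [mem_center_subgroup_iff]
    exact ⟨fun hx => (h.le ⟨congrArg Subtype.val hx, x.2⟩).2,
      fun hx => Subtype.ext (h.ge ⟨x.2, hx⟩).1⟩
  rw [Group.nilpotencyClass_eq_quotient_center_plus_one, nilpotencyClass_eq_of_mulEquiv
    ((QuotientGroup.quotientMulEquivOfEq h1.symm).trans
      (QuotientGroup.quotientKerEquivOfSurjective _ (f.subgroupMap_surjective K)))]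

theorem IsSoft.map_normalizer (hG : IsPGroup p G) {A J : Subgroup G} (h : IsSoft p A) [J.Normal]
    (h1 : A < J) (h2 : J ≠ ⊤) (h3 : ∀ C : Subgroup G, C.Normal → A ≤ C → J ≤ C) :
    IsSoft p ((normalizer (A : Set G)).map (QuotientGroup.mk' (J ⊓ centralizer (J : Set G)))) := by
  set Z := J ⊓ centralizer (J : Set G)
  set f := QuotientGroup.mk' Z
  have hf : Function.Surjective f := QuotientGroup.mk'_surjective Z
  have hZA : Z ≤ A := inf_le_right.trans ((centralizer_le h1.le).trans h.2.1)
  have hNJ := h.normalizer_le (hG.to_subgroup J) h1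
  have hc : ∀ x, f x ∈ centralizer ((A.map f : Subgroup _) : Set (G ⧸ Z)) →
      x ∈ normalizer (A : Set G) := fun x hx =>
    (comap_normalizer_map_mk hZA).le (centralizer_le_normalizer _ hx)
  refine ⟨?_, fun x hx => ?_, ?_⟩
  · have := Subgroup.Normal.map ‹J.Normal› f hf
    set Y := (J.map f ⊓ centralizer ((J.map f : Subgroup _) : Set (G ⧸ Z))).comap f
    obtain ⟨x, hx, hxA⟩ : ∃ x ∈ Y, x ∉ A := by
      by_contra! h4
      have h5 : J ≤ centralizer (Y : Set G) := h3 _ inferInstance fun a ha =>
        mem_centralizer_iff.mpr fun y hy => isMulCommutative_iff_mem.mp h.1 y (h4 y hy) a ha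
      refine inf_centralizer_ne_bot (hG.to_quotient Z |>.to_subgroup _)
        (hG.to_quotient Z |>.to_subgroup _) (le_normalizer (H := J.map f))
        (fun h6 => h1.not_ge (((Core.map_mk_eq_bot_iff Z J).mp h6).trans hZA)) ?_
      rw [← map_comap_eq_self_of_surjective hf (_ ⊓ _), Core.map_mk_eq_bot_iff]
      exact le_inf (le_trans h4 h1.le) (le_centralizer_iff.mp h5)
    have h4 := centralizer_le (map_mono h1.le) hx.2
    rw [← eq_of_lt_of_relIndex_eq_prime h.2.2 (left_lt_sup.mpr fun h5 => hxA (h5 (mem_zpowers x)))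
      (sup_le le_normalizer (zpowers_le.mpr (hc x h4))), Subgroup.map_sup, MonoidHom.map_zpowers]
    exact isMulCommutative_sup (isMulCommutative_map h.1 f) inferInstance
      (le_centralizer_iff.mp (zpowers_le.mpr h4))
  · obtain ⟨x, rfl⟩ := hf x
    exact mem_map_of_mem _ (hc x (centralizer_le (map_mono le_normalizer) hx))
  · rw [relIndex_normalizer_map_mk (hZA.trans le_normalizer)]
    exact h.relIndex_normalizer hG fun h4 => h2 (eq_top_iff.mpr (h4.ge.trans hNJ))

theorem IsSoft.tower (G : Type u) [Group G] [Finite G] : IsPGroup p G → ∀ A K : Subgroup G,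
    IsSoft p A → A ≤ K → K ≠ ⊤ → K.relIndex (normalizer (K : Set G)) = p ∧
      ∀ i, A.relIndex K = p ^ i → Group.nilpotencyClass K = i + 1 := by
  refine Core.induction_on_card (P := fun G _ _ => IsPGroup p G → ∀ A K : Subgroup G,
    IsSoft p A → A ≤ K → K ≠ ⊤ → K.relIndex (normalizer (K : Set G)) = p ∧
      ∀ i, A.relIndex K = p ^ i → Group.nilpotencyClass K = i + 1) ?_ G
  intro G _ _ ih hG A K h hAK hK
  have hnil : ∀ K : Subgroup G, Group.IsNilpotent K := fun K => (hG.to_subgroup K).isNilpotent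
  have hA : A ≠ ⊥ := fun hA => hK (eq_top_iff.mpr (le_trans (le_centralizer_iff.mp (hA ▸ bot_le))
    (h.2.1.trans hAK)))
  rcases hAK.eq_or_lt with rfl | hAK
  · refine ⟨h.2.2, fun i hi => ?_⟩
    rw [relIndex_self, eq_comm, Nat.pow_eq_one, or_iff_right hp.out.one_lt.ne'] at hi
    have h1 := Group.IsNilpotent.nilpotencyClass_le_one_iff.mpr h.1
    have h2 := mt (Group.nilpotencyClass_zero_iff_subsingleton (G := A)).mp
      (not_subsingleton_iff_nontrivial.mpr ((nontrivial_iff_ne_bot A).mpr hA))
    omega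
  have hNK := h.normalizer_le (hG.to_subgroup K) hAK
  by_cases hL : normalizer (K : Set G) = ⊤
  · have := normalizer_eq_top_iff.mp hL
    have hJK : normalClosure (A : Set G) ≤ K := normalClosure_le_normal hAK.le
    set J := normalClosure (A : Set G)
    have h1 : A < J := lt_of_le_of_ne le_normalClosure fun h1 => hK (eq_top_iff.mpr
      (le_trans (normalizer_eq_top_iff.mpr (h1 ▸ normalClosure_normal)).ge hNK))
    have h2 : J ≠ ⊤ := fun h2 => hK (eq_top_iff.mpr (h2.ge.trans hJK))
    have hNJ := h.normalizer_le (hG.to_subgroup J) h1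
    have h3 := h.map_normalizer hG h1 h2 fun C _ hC => normalClosure_le_normal hC
    set Z := J ⊓ centralizer (J : Set G)
    have hZA : Z ≤ A := inf_le_right.trans ((centralizer_le h1.le).trans h.2.1)
    obtain ⟨h4, h5⟩ := ih _ (Core.card_quotient_lt (inf_centralizer_ne_bot (hG.to_subgroup J)
      (hG.to_subgroup J) le_normalizer (ne_bot_of_gt h1))) (hG.to_quotient Z) _ _ h3
      (map_mono hNJ) fun h4 => h2 (by
        rw [← sup_eq_left.mpr (inf_le_left : Z ≤ J), ← Core.comap_map_mk, h4, comap_top])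
    rw [relIndex_normalizer_map_mk inf_le_left] at h4
    obtain rfl : J = K := by
      by_contra h6
      exact hK ((eq_of_lt_of_relIndex_eq_prime h4 (lt_of_le_of_ne hJK h6)
        Subgroup.le_normalizer_of_normal).trans (normalizer_eq_top J))
    refine ⟨h4, fun i hi => ?_⟩
    have h6 := relIndex_mul_relIndex A _ J le_normalizer hNJ
    rw [h.2.2, hi] at h6
    rcases i with _ | i
    · exact absurd (Nat.eq_one_of_mul_eq_one_right h6) hp.out.one_lt.ne'
    rw [nilpotencyClass_eq_map_add_one (ne_bot_of_gt h1) (QuotientGroup.mk' Z)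
      (by rw [QuotientGroup.ker_mk']; exact inf_eq_left.mpr inf_le_left), h5 i]
    rw [relIndex_map_map, QuotientGroup.ker_mk', sup_eq_left.mpr (hZA.trans le_normalizer),
      sup_eq_left.mpr inf_le_left]
    exact Nat.eq_of_mul_eq_mul_left hp.out.pos (h6.trans (pow_succ' p i))
  · obtain ⟨h1, h2⟩ := ih _ (Core.card_lt_of_ne_top hL) (hG.to_subgroup _) _
      (K.subgroupOf (normalizer (K : Set G))) (h.subgroupOf (hNK.trans le_normalizer))
      (subgroupOf_mono _ hAK.le) (by
        rw [Ne, subgroupOf_eq_top]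
        exact (lt_normalizer hG hK).not_ge)
    rw [← subgroupOf_normalizer_eq le_normalizer, relIndex_subgroupOf le_rfl] at h1
    refine ⟨h1, fun i hi => ?_⟩
    have := ((hG.to_subgroup _).to_subgroup (K.subgroupOf (normalizer (K : Set G)))).isNilpotent
    rw [nilpotencyClass_eq_of_mulEquiv (subgroupOfEquivOfLe (le_normalizer (H := K))),
      h2 i (by rwa [relIndex_subgroupOf le_normalizer])]

theorem IsSoft.le_total (hG : IsPGroup p G) {A : Subgroup G} (h : IsSoft p A) {K L : Subgroup G}
    (hK : A ≤ K) (hL : A ≤ L) : K ≤ L ∨ L ≤ K := by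
  by_contra! h1
  have h2 := (IsSoft.tower G hG A (K ⊓ L) h (le_inf hK hL) fun h2 =>
    h1.1 (le_top.trans (h2.ge.trans inf_le_right))).1
  have h3 := eq_of_lt_of_relIndex_eq_prime h2 (lt_inf_normalizer (hG.to_subgroup K)
    (inf_lt_left.mpr h1.1)) inf_le_right
  have h4 := eq_of_lt_of_relIndex_eq_prime h2 (lt_inf_normalizer (hG.to_subgroup L)
    (inf_lt_right.mpr h1.2)) inf_le_right
  exact (lt_normalizer hG fun h2 => h1.1 (le_top.trans (h2.ge.trans inf_le_right))).not_ge
    (le_inf (h3.ge.trans inf_le_left) (h4.ge.trans inf_le_left))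

end Cfsg.Agent.PGrp
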