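import Mathlib
import Cfsg.Agent.Lib.PGrp.SqrtCount
import Cfsg.Agent.Lib.PGrp.Count
import Cfsg.Agent.Lib.PGrp.MaxClass
import Cfsg.Agent.Lib.PGrp.ConjOrder
import Cfsg.Agent.Lib.PGrp.Soft

/-!
Counting subgroups modulo `p ^ 2` (Kulakoff, Miller, P. Hall).
-/

namespace Cfsg.Agent.PGrp

open Subgroup
open scoped commutatorElement

universe u

theorem int_dvd_sub_one_of_modEq {a p : ℕ} (h : a ≡ 1 [MOD p]) : (p : ℤ) ∣ (a : ℤ) - 1 := by
  simpa using h.symm.dvd

theorem card_subtype_subtype {α : Type*} (r s : α → Prop) :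
    Nat.card {a : {a // r a} // s a.1} = Nat.card {a // s a ∧ r a} :=
  Nat.card_congr ((Equiv.subtypeSubtypeEquivSubtypeInter r s).trans
    (Equiv.subtypeEquivRight fun _ => and_comm))

variable {G : Type*} [Group G] [Finite G] {p : ℕ} [hp : Fact p.Prime]

theorem index_inf_of_index_eq (hG : IsPGroup p G) {M N : Subgroup G} (hM : M.index = p)
    (hN : N.index = p) (h : M ≠ N) : (M ⊓ N).index = p ^ 2 := by
  have := normal_of_index_eq hG hM
  have h1 : N ⊔ M = ⊤ := (isCoatom_of_index_eq hN).2 _ (left_lt_sup.mpr fun h1 =>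
    h ((isCoatom_of_index_eq hM).le_iff.mp h1 |>.resolve_left (isCoatom_of_index_eq hN).1).symm)
  rw [← relIndex_mul_index (inf_le_right : M ⊓ N ≤ N), inf_relIndex_right, ← relIndex_sup_right N M,
    h1, relIndex_top_right, hM, hN, sq]

theorem sq_dvd_sum_inf (hG : IsPGroup p G) [Fintype {M : Subgroup G // M.index = p}]
    [DecidableEq {M : Subgroup G // M.index = p}] (M : {M : Subgroup G // M.index = p})
    (f : Subgroup G → ℤ) (hf : ∀ T : Subgroup G, T.index = p ^ 2 → (p : ℤ) ∣ f T) :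
    (p : ℤ) ^ 2 ∣ ∑ N ∈ Finset.univ.erase M, f (M.1 ⊓ N.1) := by
  classical
  rw [Finset.sum_comp f fun N : {M : Subgroup G // M.index = p} => M.1 ⊓ N.1]
  refine Finset.dvd_sum fun T hT => ?_
  obtain ⟨N, hN, rfl⟩ := Finset.mem_image.mp hT
  have h1 := index_inf_of_index_eq hG M.2 N.2 fun h => Finset.ne_of_mem_erase hN (Subtype.ext h).symm
  rw [nsmul_eq_mul, sq]
  refine mul_dvd_mul ?_ (hf _ h1)
  have h2 := int_dvd_sub_one_of_modEq (card_index_eq_prime_ge_modEq hG (H := M.1 ⊓ N.1) fun h => by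
    rw [h, index_top] at h1
    exact (Nat.one_lt_pow two_ne_zero hp.out.one_lt).ne h1)
  rw [← card_subtype_subtype, Nat.card_eq_fintype_card, Fintype.card_subtype,
    ← Finset.card_erase_add_one (a := M) (by simp)] at h2
  refine h2.trans (dvd_of_eq ?_)
  rw [Nat.cast_add, Nat.cast_one, add_sub_cancel_right]
  congr 2
  ext L
  simp only [Finset.mem_filter, Finset.mem_erase, Finset.mem_univ, and_true, true_and,
    and_congr_right_iff]
  refine fun hL => ⟨fun h => ?_, fun h => h.ge.trans inf_le_right⟩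
  have h3 := index_inf_of_index_eq hG M.2 L.2 fun h => hL (Subtype.ext h).symm
  refine (eq_of_le_of_card_eq (le_inf inf_le_left h) (Nat.eq_of_mul_eq_mul_right
    (Nat.pos_of_ne_zero (index_ne_zero_of_finite (H := M.1 ⊓ L.1))) ?_)).symm
  rw [card_mul_index, h3, ← h1, card_mul_index]

theorem sq_dvd_card_sub_sum (hG : IsPGroup p G) [Fintype {M : Subgroup G // M.index = p}] {k : ℕ}
    (hk : p ^ (k + 2) ≤ Nat.card G) :
    (p : ℤ) ^ 2 ∣ Nat.card {H : Subgroup G // Nat.card H = p ^ k} -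
      ∑ M : {M : Subgroup G // M.index = p}, (Nat.card {H : Subgroup M.1 // Nat.card H = p ^ k} : ℤ)
      + (Nat.card {M : Subgroup G // M.index = p} - 1) := by
  classical
  have := Fintype.ofFinite {H : Subgroup G // Nat.card H = p ^ k}
  have hne : ∀ H : Subgroup G, Nat.card H ≤ p ^ k → H ≠ ⊤ := by
    rintro _ h rfl
    rw [card_top] at h
    exact absurd (hk.trans h) (not_le.mpr (Nat.pow_lt_pow_right hp.out.one_lt (by omega)))
  set s : Subgroup G → ℤ := fun K => Nat.card {H : Subgroup K // Nat.card H = p ^ k} with hs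
  set n : Subgroup G → ℤ := fun H => Nat.card {M : Subgroup G // H ≤ M ∧ M.index = p} with hn
  have h1 : ∑ M : {M : Subgroup G // M.index = p}, s M.1 =
      ∑ H : {H : Subgroup G // Nat.card H = p ^ k}, n H.1 := by
    simpa using congrArg (Nat.cast : ℕ → ℤ) (sum_card_subgroups_le_maximal (G := G) (p := p) (p ^ k))
  have h2 : ∑ M : {M : Subgroup G // M.index = p}, ∑ N : {M : Subgroup G // M.index = p},
      s (M.1 ⊓ N.1) = ∑ H : {H : Subgroup G // Nat.card H = p ^ k}, n H.1 ^ 2 := by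
    have h2 := congrArg (Nat.cast : ℕ → ℤ) (sum_card_comm
      fun (M : {M : Subgroup G // M.index = p} × {M : Subgroup G // M.index = p})
        (H : {H : Subgroup G // Nat.card H = p ^ k}) => H.1 ≤ M.1.1 ⊓ M.2.1)
    rw [Fintype.sum_prod_type] at h2
    push_cast at h2
    convert h2 using 2
    · refine Finset.sum_congr rfl fun N _ => ?_
      rw [card_subtype_subtype _ fun H : Subgroup G => H ≤ _, card_subgroups_le]
    · simp only [hn, le_inf_iff]
      rename_i H _
      rw [Nat.card_congr (Equiv.subtypeProdEquivProd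
        (p := fun M : {M : Subgroup G // M.index = p} => H.1 ≤ M.1)
        (q := fun M : {M : Subgroup G // M.index = p} => H.1 ≤ M.1)), Nat.card_prod, sq,
        card_subtype_subtype _ fun M : Subgroup G => _ ≤ M, Nat.cast_mul]
  have h3 : (p : ℤ) ^ 2 ∣ ∑ H : {H : Subgroup G // Nat.card H = p ^ k}, (n H.1 - 1) ^ 2 :=
    Finset.dvd_sum fun H _ => pow_dvd_pow_of_dvd (int_dvd_sub_one_of_modEq
      (card_index_eq_prime_ge_modEq hG (hne H H.2.le))) 2
  have h4 : (p : ℤ) ^ 2 ∣ ∑ M : {M : Subgroup G // M.index = p},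
      ∑ N ∈ Finset.univ.erase M, (s (M.1 ⊓ N.1) - 1) :=
    Finset.dvd_sum fun M _ => sq_dvd_sum_inf hG M (fun T => s T - 1) fun T hT =>
      int_dvd_sub_one_of_modEq (card_subgroups_modEq_one (hG.to_subgroup T) (by
        rw [← T.card_mul_index, hT, pow_add] at hk
        exact Nat.le_of_mul_le_mul_right hk (pow_pos hp.out.pos 2)))
  have h5 := int_dvd_sub_one_of_modEq (card_index_eq_prime_ge_modEq hG (hne ⊥ (by
    simpa using Nat.one_le_pow k p hp.out.pos)))
  simp only [bot_le, true_and] at h5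
  simp only [Finset.sum_erase_eq_sub (Finset.mem_univ _), Finset.sum_sub_distrib, h2, inf_idem, h1,
    Finset.sum_const, Finset.card_univ, ← Nat.card_eq_fintype_card, nsmul_eq_mul, mul_one] at h4
  simp only [sub_sq, Finset.sum_add_distrib, Finset.sum_sub_distrib, mul_one, ← Finset.mul_sum,
    one_pow, Finset.sum_const, Finset.card_univ, ← Nat.card_eq_fintype_card, nsmul_eq_mul] at h3
  refine ((h3.sub h4).sub (pow_dvd_pow_of_dvd h5 2)).trans (dvd_of_eq ?_)
  rw [← h1]
  ring

omit hp [Finite G] in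
theorem card_cyclic_le (K : Subgroup G) (n : ℕ) :
    Nat.card {H : Subgroup G // H ≤ K ∧ (IsCyclic H ∧ Nat.card H = n)} =
      Nat.card {H : Subgroup K // IsCyclic H ∧ Nat.card H = n} :=
  Nat.card_congr
    { toFun := fun H => ⟨H.1.subgroupOf K, (subgroupOfEquivOfLe H.2.1).isCyclic.mpr H.2.2.1,
        (Core.card_subgroupOf_of_le H.2.1).trans H.2.2.2⟩
      invFun := fun H => ⟨H.1.map K.subtype, map_subtype_le _,
        (H.1.equivMapOfInjective _ K.subtype_injective).isCyclic.mp H.2.1,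
        (Core.card_map_subtype _).trans H.2.2⟩
      left_inv := fun H => Subtype.ext (map_subgroupOf_eq_of_le H.2.1)
      right_inv := fun H => Subtype.ext (comap_map_eq_self_of_injective K.subtype_injective _) }

theorem dvd_card_cyclic_sub_sum (hG : IsPGroup p G) [Fintype {M : Subgroup G // M.index = p}]
    {n : ℕ} (hn : n < Nat.card G) :
    (p : ℤ) ∣ ∑ M : {M : Subgroup G // M.index = p},
      (Nat.card {H : Subgroup M.1 // IsCyclic H ∧ Nat.card H = n} : ℤ) -
      Nat.card {H : Subgroup G // IsCyclic H ∧ Nat.card H = n} := by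
  have := Fintype.ofFinite {H : Subgroup G // IsCyclic H ∧ Nat.card H = n}
  have h1 := congrArg (Nat.cast : ℕ → ℤ) (sum_card_comm fun (M : {M : Subgroup G // M.index = p})
    (H : {H : Subgroup G // IsCyclic H ∧ Nat.card H = n}) => H.1 ≤ M.1)
  rw [Finset.sum_congr rfl fun M _ => (card_subtype_subtype _ fun H : Subgroup G => H ≤ M.1).trans
    (card_cyclic_le M.1 n), Finset.sum_congr (s₁ := Finset.univ) rfl
    fun (H : {H : Subgroup G // IsCyclic H ∧ Nat.card H = n}) _ =>
    card_subtype_subtype (fun M : Subgroup G => M.index = p) fun M : Subgroup G => H.1 ≤ M] at h1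
  push_cast at h1
  rw [h1, Nat.card_eq_fintype_card (α := {H : Subgroup G // IsCyclic H ∧ Nat.card H = n}),
    ← Finset.card_univ, Finset.card_eq_sum_ones, Nat.cast_sum, ← Finset.sum_sub_distrib]
  refine Finset.dvd_sum fun H _ => int_dvd_sub_one_of_modEq (card_index_eq_prime_ge_modEq hG ?_)
  exact fun h => hn.ne' (by rw [← H.2.2, h, card_top])

/-- The number of subgroups of order `p ^ k` and of cyclic subgroups of order `p ^ (k + 1)`. -/
theorem sq_dvd_card_add_card_cyclic {k : ℕ} (G : Type u) [Group G] [Finite G] : IsPGroup p G →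
    p ^ (k + 2) ≤ Nat.card G → (p : ℤ) ^ 2 ∣
      Nat.card {H : Subgroup G // Nat.card H = p ^ (k + 1)} +
        p * Nat.card {H : Subgroup G // IsCyclic H ∧ Nat.card H = p ^ (k + 2)} - (1 + p) := by
  refine Core.induction_on_card (P := fun G _ _ => IsPGroup p G →
    p ^ (k + 2) ≤ Nat.card G → (p : ℤ) ^ 2 ∣
      Nat.card {H : Subgroup G // Nat.card H = p ^ (k + 1)} +
        p * Nat.card {H : Subgroup G // IsCyclic H ∧ Nat.card H = p ^ (k + 2)} - (1 + p)) ?_ G
  intro G _ _ ih hG hk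
  have h1 := card_index_eq_prime hG
  rcases hk.eq_or_lt with hk | hk
  · have h2 : Nat.card {H : Subgroup G // Nat.card H = p ^ (k + 1)} =
        Nat.card {M : Subgroup G // M.index = p} := Nat.card_congr (Equiv.subtypeEquivRight
      fun _ => card_eq_iff_index_eq (hk ▸ pow_succ p _) (pow_pos hp.out.pos _) hp.out.pos)
    rw [h2]
    by_cases hc : IsCyclic G
    · have h3 : Nat.card {H : Subgroup G // IsCyclic H ∧ Nat.card H = p ^ (k + 2)} = 1 :=
        Nat.card_eq_one_iff_exists.mpr ⟨⟨⊤, inferInstance, by simp [hk]⟩,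
          fun H => Subtype.ext (eq_top_of_card_eq _ (H.2.2.trans hk))⟩
      have := nontrivial_of_card_eq_pow_succ hk.symm
      have h4 := le_antisymm ((isCyclic_iff_index_frattini_le hG).mp hc) (Nat.le_of_dvd
        (Nat.pos_of_ne_zero index_ne_zero_of_finite) (dvd_index_of_ne_top hG frattini_ne_top))
      have h5 : Nat.card {M : Subgroup G // M.index = p} = 1 := by
        have := hp.out.two_le
        refine Nat.eq_of_mul_eq_mul_left (show 0 < p - 1 by omega) (by omega)
      simp [h3, h5]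
    · have h3 : IsEmpty {H : Subgroup G // IsCyclic H ∧ Nat.card H = p ^ (k + 2)} :=
        ⟨fun ⟨H, h3, h4⟩ => hc (by
          obtain rfl := eq_top_of_card_eq _ (h4.trans hk)
          exact topEquiv.isCyclic.mp h3)⟩
      obtain ⟨d, hd⟩ := hG.index (frattini G)
      have h4 := sq_le_index_frattini hG hc
      rw [hd, Nat.pow_le_pow_iff_right hp.out.one_lt] at h4
      simpa using (modEq_one_add_of_eq h1 (hd ▸ pow_dvd_pow p h4)).symm.dvd
  have := Fintype.ofFinite {M : Subgroup G // M.index = p}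
  obtain ⟨m, hm⟩ := IsPGroup.iff_card.mp hG
  have hk' : p ^ (k + 1 + 2) ≤ Nat.card G := by
    rw [hm, Nat.pow_lt_pow_iff_right hp.out.one_lt] at hk
    exact hm ▸ Nat.pow_le_pow_right hp.out.pos hk
  have h2 := sq_dvd_card_sub_sum hG hk'
  have h3 := mul_dvd_mul_left (p : ℤ) (dvd_card_cyclic_sub_sum hG hk)
  have h4 := Finset.dvd_sum (s := Finset.univ) fun (M : {M : Subgroup G // M.index = p}) _ =>
    ih M.1 (Core.card_lt_of_ne_top (isCoatom_of_index_eq M.2).1) (hG.to_subgroup _) (by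
      rw [← M.1.card_mul_index, M.2, pow_succ] at hk'
      exact Nat.le_of_mul_le_mul_right hk' hp.out.pos)
  have := nontrivial_of_card_eq_pow_succ (G := G) (p := p) (n := m - 1) (by
    rw [hm, Nat.pow_lt_pow_iff_right hp.out.one_lt] at hk
    rw [hm]; congr 1; omega)
  have h5 := mul_dvd_mul_left (p : ℤ) (int_dvd_sub_one_of_modEq (modEq_one_of_eq h1
    (dvd_index_of_ne_top hG frattini_ne_top)))
  simp only [Finset.sum_add_distrib, Finset.sum_sub_distrib, ← Finset.mul_sum, Finset.sum_const,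
    Finset.card_univ, ← Nat.card_eq_fintype_card, nsmul_eq_mul] at h4
  rw [← sq] at h3 h5
  refine (((h2.add h4).sub h3).add h5).trans (dvd_of_eq ?_)
  ring

/-- Miller's theorem on the number of cyclic subgroups. -/
theorem dvd_card_cyclic (hG : IsPGroup p G) {R : Subgroup G} [R.Normal]
    (hR : IsElementaryAbelian p R) (hc : Nat.card R = p ^ 2) {k : ℕ}
    (hk : p ∣ (p ^ (k + 1)).choose 2) :
    p ∣ Nat.card {H : Subgroup G // IsCyclic H ∧ Nat.card H = p ^ (k + 2)} := by
  have hZ := le_center_of_card_le_prime hG ((commutator_top_card_le hG hc).trans (pow_one p).le)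
  have key : ∀ r ∈ R, ∀ y : G, (r * y) ^ p ^ (k + 1) = y ^ p ^ (k + 1) := fun r hr y => by
    have h1 : ⁅y, r⁆ ∈ center G :=
      hZ (commutator_comm R ⊤ ▸ commutator_mem_commutator (mem_top y) hr)
    obtain ⟨c, hc⟩ := hk
    rw [mul_pow_of_commute (commute_of_mem_center h1 r) (commute_of_mem_center h1 y), hc,
      pow_mul ⁅y, r⁆, hR.2 _ (commutatorElement_mem_right y hr), pow_succ', pow_mul r, hR.2 r hr]
    simp
  have := Fintype.ofFinite (Subgroup G)
  rw [card_eq_sum_card_fiber fun H : {H : Subgroup G // IsCyclic H ∧ Nat.card H = p ^ (k + 2)} =>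
    R ⊔ H.1]
  refine Finset.dvd_sum fun K _ => ?_
  rw [card_subtype_subtype _ fun H => R ⊔ H = K]
  rcases isEmpty_or_nonempty {H : Subgroup G // R ⊔ H = K ∧ IsCyclic H ∧ Nat.card H = p ^ (k + 2)}
    with _ | ⟨⟨H, rfl, h1, h2⟩⟩
  · simp
  obtain ⟨h, rfl⟩ := (Subgroup.isCyclic_iff_exists_zpowers_eq_top H).mp h1
  rw [Nat.card_zpowers] at h2
  have h3 : orderOf (h ^ p) = p ^ (k + 1) := by
    rw [orderOf_pow_of_dvd hp.out.ne_zero (h2 ▸ dvd_pow_self p (by omega)), h2, pow_succ,
      Nat.mul_div_cancel _ hp.out.pos]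
  have hn : ∀ y : G, y ∈ normalizer (R : Set G) := fun y =>
    Subgroup.le_normalizer_of_normal (mem_top y)
  have h4 : ∀ x ∈ R ⊔ zpowers (h ^ p), x ^ p ^ (k + 1) = 1 := fun x hx => by
    obtain ⟨r, hr, a, rfl⟩ := (mem_sup_zpowers_iff (hn _)).mp hx
    rw [key r hr, ← zpow_natCast, ← zpow_mul, mul_comm, zpow_mul, zpow_natCast, ← h3,
      pow_orderOf_eq_one, one_zpow]
  have h5 : ∀ x : G, orderOf x = p ^ (k + 2) → x ∉ R ⊔ zpowers (h ^ p) := fun x hx hx' => by
    have := Nat.le_of_dvd (pow_pos hp.out.pos _) (orderOf_dvd_of_pow_eq_one (h4 x hx'))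
    rw [hx, Nat.pow_le_pow_iff_right hp.out.one_lt] at this
    omega
  have hle : zpowers (h ^ p) ≤ zpowers h := zpowers_le.mpr (npow_mem_zpowers h p)
  have h6 : ∀ x, (orderOf x = p ^ (k + 2) ∧ R ⊔ zpowers x = R ⊔ zpowers h) ↔
      (x ∈ R ⊔ zpowers h ∧ x ∉ R ⊔ zpowers (h ^ p)) := fun x => by
    refine ⟨fun hx => ⟨hx.2 ▸ mem_sup_right (mem_zpowers x), h5 x hx.1⟩, fun ⟨hx, hx'⟩ => ?_⟩
    obtain ⟨r, hr, a, rfl⟩ := (mem_sup_zpowers_iff (hn _)).mp hx
    have h6 := zpowers_le.mpr (zpow_mem_zpowers h a)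
    have h7 : (h ^ a) ^ p ^ (k + 1) ≠ 1 := fun h7 => hx' (Subgroup.mul_mem _ (mem_sup_left hr)
      (mem_sup_right (le_of_card_dvd_of_isCyclic h6 hle (by
        rw [Nat.card_zpowers, Nat.card_zpowers, h3]
        exact orderOf_dvd_of_pow_eq_one h7) (mem_zpowers _))))
    have h8 : (h ^ a) ^ p ^ (k + 1 + 1) = 1 := by
      rw [← zpow_natCast, ← zpow_mul, mul_comm, zpow_mul, zpow_natCast, ← h2,
        pow_orderOf_eq_one, one_zpow]
    refine ⟨orderOf_eq_prime_pow (by rwa [key r hr]) (by rwa [pow_succ, pow_mul, key r hr,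
      ← pow_mul, ← pow_succ]), le_antisymm (sup_le le_sup_left (zpowers_le.mpr hx))
        (sup_le le_sup_left ?_)⟩
    rw [← eq_of_le_of_card_eq h6 (by
      rw [Nat.card_zpowers, Nat.card_zpowers, h2, orderOf_eq_prime_pow h7 h8]), zpowers_le]
    exact (Subgroup.mul_mem_cancel_left _ (mem_sup_left hr)).mp (mem_sup_right (mem_zpowers _))
  have h7 := card_orderOf_eq_totient_mul' (p ^ (k + 2)) fun H => R ⊔ H = R ⊔ zpowers h
  have h8 := card_eq_card_add_card (· ∈ R ⊔ zpowers h) (· ∈ R ⊔ zpowers (h ^ p))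
  rw [← Nat.card_congr (Equiv.subtypeEquivRight h6), h7, Nat.card_congr (Equiv.subtypeEquivRight
    fun x => and_iff_right_of_imp fun hx => sup_le_sup_left hle R hx)] at h8
  have h9 := card_sup_zpowers (p := p) (H := R ⊔ zpowers (h ^ p)) (y := h)
    (zpowers_le.mp (Core.le_normalizer_sup Subgroup.le_normalizer_of_normal (zpowers_le.mpr
      (mem_normalizer_zpowers_of_commute ((Commute.refl h).pow_left p))))) (h5 h h2)
    (mem_sup_right (mem_zpowers _))
  rw [sup_assoc, sup_eq_right.mpr hle] at h9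
  obtain ⟨t, ht⟩ := mul_card_dvd_of_lt (hG.to_subgroup (R ⊔ zpowers (h ^ p)))
    (right_lt_sup.mpr fun h10 => not_isCyclic_of_elemAb hR.2
      (hc ▸ lt_self_pow₀ hp.out.one_lt one_lt_two) (Subgroup.isCyclic_of_le h10))
  rw [Nat.card_congr (Equiv.subtypeEquivRight (q := fun H : Subgroup G => IsCyclic H ∧
    Nat.card H = p ^ (k + 2) ∧ R ⊔ H = R ⊔ zpowers h) fun H => by tauto)]
  refine ⟨t, ?_⟩
  erw [h9, ht, Nat.card_zpowers, h3, Nat.totient_prime_pow_succ hp.out] at h8
  obtain ⟨n, rfl⟩ := Nat.exists_eq_add_of_le' hp.out.one_le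
  have h10 : 0 < n := by have := hp.out.two_le; omega
  refine Nat.eq_of_mul_eq_mul_left (Nat.mul_pos (pow_pos n.succ_pos (k + 1)) h10) ?_
  rw [Nat.add_sub_cancel] at h8
  linarith

omit hp in
theorem four_dvd_card_sq_eq_one (hG : IsPGroup 2 G) {R : Subgroup G} [R.Normal]
    (hR : IsElementaryAbelian 2 R) (hc : Nat.card R = 2 ^ 2)
    (hd : ¬ ∃ (n : ℕ) (x y : G), IsDQS n x y) : 4 ∣ Nat.card {x : G // x ^ 2 = 1} := by
  classical
  by_cases h8 : 2 ^ (2 * 1 + 1) ≤ (frattini G).index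
  · exact two_pow_dvd_card_sq_eq_one hG h8
  have := Fintype.ofFinite G
  set C := centralizer (R : Set G)
  rw [card_eq_card_add_card _ (· ∈ C), card_subtype_eq_sum, card_subtype_eq_sum]
  refine Int.natCast_dvd_natCast.mp ?_
  push_cast
  refine dvd_add (dvd_sum_of_orbit (A := R) _ _ (fun r x => ?_) fun x => Dvd.dvd.mul_right ?_ _)
    (dvd_sum_of_orbit (A := ConjAct G) _ _ (fun g x => ?_) fun x => ?_)
  · have h1 : (r : G) ∈ C := mem_centralizer_iff.mpr fun s hs =>
      isMulCommutative_iff_mem.mp hR.1 s hs r r.2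
    refine if_congr ?_ rfl rfl
    rw [Subgroup.smul_def, smul_eq_mul, Subgroup.mul_mem_cancel_left _ h1]
    refine and_congr_left fun hx => ?_
    rw [Commute.mul_pow (mem_centralizer_iff.mp hx r r.2), hR.2 r r.2, one_mul]
  · rw [show MulAction.stabilizer R x = ⊥ from eq_bot_iff.mpr fun r hr => Subtype.ext
      (mul_eq_right.mp hr), index_bot, hc]
    rfl
  · refine if_congr ?_ rfl rfl
    rw [ConjAct.smul_def, conj_pow, mul_inv_eq_iff_eq_mul, one_mul, mul_eq_left,
      Subgroup.Normal.mem_comm_iff inferInstance, inv_mul_cancel_left]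
  split_ifs with hx
  swap
  · simp
  rw [mul_one, ConjAct.stabilizer_eq_centralizer]
  change 4 ∣ ((centralizer ({x} : Set G)).index : ℤ)
  set D := centralizer ({x} : Set G)
  have hRD : ¬ R ≤ D := fun h => hx.2 (mem_centralizer_iff.mpr fun r hr =>
    mem_centralizer_singleton_iff.mp (h hr))
  obtain ⟨d, hd'⟩ := hG.index D
  rcases d with _ | _ | d
  · exact absurd (le_top.trans (index_eq_one.mp hd').ge) hRD
  swap
  · rw [hd', pow_add, pow_add]
    push_cast
    exact Dvd.intro_left (2 ^ d) (by ring)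
  replace hd' : D.index = 2 := hd'
  have hxD : x ∈ D := mem_centralizer_singleton_iff.mpr rfl
  have hC := index_centralizer_eq_of_card_sq hG hc fun h => hRD (h.trans (center_le_centralizer _))
  have h1 := index_inf_of_index_eq hG hC hd' fun h => hx.2 (h.ge hxD)
  have h2 : frattini G ≤ C ⊓ D := le_inf (frattini_le_coatom (isCoatom_of_index_eq hC))
    (frattini_le_coatom (isCoatom_of_index_eq hd'))
  have h3 : frattini G = C ⊓ D := by
    by_contra h3
    refine h8 (Nat.le_of_dvd (Nat.pos_of_ne_zero index_ne_zero_of_finite) ?_)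
    rw [← relIndex_mul_index h2, h1, pow_succ']
    exact Nat.mul_dvd_mul_right (dvd_relIndex_of_not_le (hG.to_subgroup _)
      fun h => h3 (le_antisymm h2 h)) _
  have h4 : (C ⊓ D).relIndex D = 2 := Nat.eq_of_mul_eq_mul_right two_pos (by
    have := relIndex_mul_index (inf_le_right : C ⊓ D ≤ D)
    rwa [h1, hd'] at this)
  have h5 := eq_of_lt_of_relIndex_eq_prime h4 (left_lt_sup.mpr fun h => hx.2 (h (mem_zpowers x)).1)
    (sup_le inf_le_right (zpowers_le.mpr hxD))
  have h6 : R ⊔ zpowers x = ⊤ := by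
    refine frattini_nongenerating ((isCoatom_of_index_eq hd').2 _ (lt_of_le_of_ne ?_
      fun h => hRD ((le_sup_left.trans le_sup_left).trans h.ge)))
    exact h5.ge.trans (sup_le (h3.ge.trans le_sup_right) (le_sup_right.trans le_sup_left))
  have h7 := card_sup_zpowers (p := 2) (Subgroup.le_normalizer_of_normal (mem_top x))
    (fun h => hx.2 (mem_centralizer_iff.mpr fun r hr => isMulCommutative_iff_mem.mp hR.1 r hr x h))
    (hx.1 ▸ R.one_mem)
  rw [h6, card_top, hc] at h7
  obtain ⟨y, z, h⟩ := dqs_of_card_eight h7 fun h => hRD fun r _ =>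
    mem_centralizer_singleton_iff.mpr (h.1.1 r x)
  exact absurd ⟨2, y, z, h⟩ hd

/-- Kulakoff's theorem. -/
theorem card_subgroups_modEq_one_add (hG : IsPGroup p G) (hc : ¬ IsCyclic G)
    (hd : ¬ (p = 2 ∧ ∃ (n : ℕ) (x y : G), IsDQS n x y)) {k : ℕ} (hk : p ^ (k + 2) ≤ Nat.card G) :
    Nat.card {H : Subgroup G // Nat.card H = p ^ (k + 1)} ≡ 1 + p [MOD p ^ 2] := by
  obtain ⟨R, _, hR, hR'⟩ :=
    ((isCyclic_or_dqs_or_exists_normal_elemAb hG).resolve_left hc).resolve_left hd
  by_cases h1 : p = 2 ∧ k = 0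
  · obtain ⟨rfl, rfl⟩ := h1
    have h1 := four_dvd_card_sq_eq_one hG hR hR' fun h => hd ⟨rfl, h⟩
    rw [card_pow_eq_one_eq] at h1
    simp only [zero_add, pow_one, Nat.ModEq]
    omega
  have h2 : p ∣ (p ^ (k + 1)).choose 2 := by
    rcases hp.out.eq_two_or_odd' with rfl | h2
    · obtain ⟨k, rfl⟩ := Nat.exists_eq_add_of_le' (Nat.pos_of_ne_zero fun h => h1 ⟨rfl, h⟩)
      rw [Nat.choose_two_right, pow_succ, mul_right_comm, Nat.mul_div_cancel _ two_pos]
      exact (dvd_pow_self 2 (by omega)).mul_right _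
    · rw [Nat.choose_two_right, Nat.mul_div_assoc _ (Nat.Odd.sub_odd h2.pow odd_one).two_dvd]
      exact (dvd_pow_self p (by omega)).mul_right _
  have h3 := mul_dvd_mul_left (p : ℤ) (Int.natCast_dvd_natCast.mpr (dvd_card_cyclic hG hR hR' h2))
  rw [← sq] at h3
  refine (Nat.modEq_iff_dvd.mpr ?_).symm
  push_cast
  refine ((sq_dvd_card_add_card_cyclic G hG hk).sub h3).trans (dvd_of_eq ?_)
  ring

end Cfsg.Agent.PGrp
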