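import Cfsg.Agent.Lib.PGrp.Count
import Cfsg.Agent.Lib.Reg.FrobCount

/-! Numbers of elements of a given order: arithmetic consequences of Frobenius' theorem. -/

set_option autoImplicit false

namespace Cfsg.Agent.PGrp

open Subgroup

/-- The number of elements of order `m`. -/
noncomputable def sN (G : Type*) [Group G] (m : ℕ) : ℕ := Nat.card {g : G // orderOf g = m}

variable {G : Type*} [Group G] [Finite G]

theorem sN_one : sN G 1 = 1 := by
  unfold sN
  rw [Nat.card_eq_one_iff_exists]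
  exact ⟨⟨1, orderOf_one⟩, fun y => Subtype.ext (orderOf_eq_one_iff.mp y.2)⟩

theorem sN_ne_zero_iff {m : ℕ} : sN G m ≠ 0 ↔ ∃ g : G, orderOf g = m := by
  unfold sN
  rw [Nat.card_ne_zero, nonempty_subtype]
  exact ⟨fun h => h.1, fun h => ⟨h, inferInstance⟩⟩

theorem sN_eq_zero_iff {m : ℕ} : sN G m = 0 ↔ ∀ g : G, orderOf g ≠ m := by
  rw [← not_iff_not, ← Ne, sN_ne_zero_iff]; simp

theorem totient_dvd_sN (m : ℕ) : m.totient ∣ sN G m :=
  ⟨_, card_orderOf_eq_totient_mul m⟩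

theorem sN_ne_zero_of_dvd {d m : ℕ} (h : d ∣ m) (hm : sN G m ≠ 0) : sN G d ≠ 0 := by
  obtain ⟨g, hg⟩ := sN_ne_zero_iff.mp hm
  have h0 : m ≠ 0 := hg ▸ (orderOf_pos g).ne'
  exact sN_ne_zero_iff.mpr ⟨g ^ (orderOf g / d), orderOf_pow_orderOf_div (hg ▸ h0) (hg ▸ h)⟩

theorem sN_eq_zero_of_dvd {d m : ℕ} (h : d ∣ m) (hd : sN G d = 0) : sN G m = 0 := by
  by_contra hm
  exact sN_ne_zero_of_dvd h hm hd

theorem sN_prime_ne_zero {p : ℕ} (hp : p.Prime) (h : p ∣ Nat.card G) : sN G p ≠ 0 := by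
  haveI := Fact.mk hp
  exact sN_ne_zero_iff.mpr (exists_prime_orderOf_dvd_card' p h)

theorem dvd_card_of_sN_ne_zero {m : ℕ} (h : sN G m ≠ 0) : m ∣ Nat.card G := by
  obtain ⟨g, rfl⟩ := sN_ne_zero_iff.mp h
  exact orderOf_dvd_natCard g

theorem even_sN {m : ℕ} (hm : 3 ≤ m) : Even (sN G m) :=
  (even_iff_two_dvd.mpr ((Nat.totient_even (by omega)).two_dvd.trans (totient_dvd_sN m)))

theorem dvd_sN_of_sq_dvd {p m : ℕ} (hp : p.Prime) (h : p ^ 2 ∣ m) : p ∣ sN G m := by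
  refine Dvd.dvd.trans ?_ ((Nat.totient_dvd_of_dvd h).trans (totient_dvd_sN m))
  rw [Nat.totient_prime_pow hp two_pos]
  simp

theorem sum_sN {n : ℕ} (hn : n ≠ 0) :
    ∑ m ∈ n.divisors, sN G m = Nat.card {x : G // x ^ n = 1} := by
  classical
  haveI := Fintype.ofFinite G
  rw [Nat.card_eq_fintype_card, Fintype.card_subtype]
  refine Eq.trans (Finset.sum_congr rfl fun m _ => ?_) (by
    convert sum_card_orderOf_eq_card_pow_eq_one (G := G) hn)
  rw [sN, Nat.card_eq_fintype_card, Fintype.card_subtype]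

theorem sum_sN_card : ∑ m ∈ (Nat.card G).divisors, sN G m = Nat.card G := by
  rw [sum_sN Nat.card_pos.ne']
  exact Nat.card_congr (Equiv.subtypeUnivEquiv fun x => pow_card_eq_one')

theorem sum_sN_le (S : Finset ℕ) : ∑ m ∈ S, sN G m ≤ Nat.card G := by
  classical
  rw [← sum_sN_card, ← Finset.sum_filter_ne_zero S]
  refine Finset.sum_le_sum_of_subset fun m hm => ?_
  exact Nat.mem_divisors.mpr ⟨dvd_card_of_sN_ne_zero (Finset.mem_filter.mp hm).2, Nat.card_pos.ne'⟩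

/-- Frobenius' theorem. -/
theorem dvd_sum_sN {d : ℕ} (hd : d ∣ Nat.card G) : d ∣ ∑ m ∈ d.divisors, sN G m := by
  rw [sum_sN (ne_zero_of_dvd_ne_zero Nat.card_pos.ne' hd)]
  have := Reg.gcd_dvd_card_pow_mem (G := G) d (Y := fun y => y = 1) (by
    rintro h y rfl; simp)
  rwa [Nat.gcd_eq_left hd] at this

theorem dvd_sN_add_sN {p m : ℕ} (hp : p.Prime) (h : p ∣ Nat.card G) (hm : ¬ p ∣ m) :
    p ∣ sN G m + sN G (m * p) := by
  have h1 := Reg.gcd_dvd_card_pow_mem (G := G) p (Y := fun y => orderOf y = m) (by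
    intro h y hy
    rw [← hy]
    exact (SemiconjBy.orderOf_eq h (x := y) (y := h * y * h⁻¹) (by simp [SemiconjBy])).symm)
  rw [Nat.gcd_eq_left h, card_eq_card_add_card _ (fun x => p ∣ orderOf x), add_comm] at h1
  refine h1.trans (dvd_of_eq ?_)
  unfold sN
  congr 1
  · refine Nat.card_congr (Equiv.subtypeEquivRight fun x => ?_)
    constructor
    · rintro ⟨h1, h2⟩
      rwa [((Nat.Prime.coprime_iff_not_dvd hp).mpr h2).symm.orderOf_pow] at h1
    · intro h1
      have h2 : ¬ p ∣ orderOf x := h1 ▸ hm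
      exact ⟨by rwa [((Nat.Prime.coprime_iff_not_dvd hp).mpr h2).symm.orderOf_pow], h2⟩
  · refine Nat.card_congr (Equiv.subtypeEquivRight fun x => ?_)
    constructor
    · rintro ⟨h1, h2⟩
      rw [orderOf_pow_of_dvd hp.ne_zero h2] at h1
      rw [← h1, Nat.div_mul_cancel h2]
    · intro h1
      have h2 : p ∣ orderOf x := h1 ▸ dvd_mul_left p m
      exact ⟨by rw [orderOf_pow_of_dvd hp.ne_zero h2, h1, Nat.mul_div_cancel _ hp.pos], h2⟩

theorem dvd_one_add_sN {p : ℕ} (hp : p.Prime) (h : p ∣ Nat.card G) : p ∣ 1 + sN G p := by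
  have := dvd_sN_add_sN hp h (m := 1) hp.not_dvd_one
  rwa [sN_one, one_mul] at this

theorem not_dvd_sN {p : ℕ} (hp : p.Prime) (h : p ∣ Nat.card G) : ¬ p ∣ sN G p := fun h1 =>
  hp.not_dvd_one ((Nat.dvd_add_left h1).mp (dvd_one_add_sN hp h))

theorem pow_dvd_one_add_sN {p k : ℕ} (hp : p.Prime) (h : p ^ k ∣ Nat.card G)
    (h2 : sN G (p ^ 2) = 0) : p ^ k ∣ 1 + sN G p := by
  rcases k with _ | k
  · simp
  refine (dvd_sum_sN h).trans (dvd_of_eq ?_)
  rw [Nat.sum_divisors_prime_pow hp, Finset.sum_range_succ', Finset.sum_range_succ',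
    Finset.sum_eq_zero (fun i _ => sN_eq_zero_of_dvd (pow_dvd_pow p (by omega)) h2)]
  simp [sN_one, add_comm]

theorem four_dvd_sN (h : 4 ∣ Nat.card G) : 4 ∣ 1 + sN G 2 + sN G 4 := by
  have := dvd_sum_sN h
  rwa [show Nat.divisors 4 = {1, 2, 4} by decide, Finset.sum_insert (by decide),
    Finset.sum_insert (by decide), Finset.sum_singleton, sN_one, ← add_assoc] at this

/-- If `p` does not divide the number of elements of order `m`, one of them centralizes a given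
`p`-subgroup. -/
theorem exists_orderOf_eq_centralizes {p m : ℕ} [Fact p.Prime] (h : ¬ p ∣ sN G m)
    {P : Subgroup G} (hP : IsPGroup p P) : ∃ y : G, orderOf y = m ∧ ∀ x ∈ P, Commute x y := by
  letI : MulAction P {g : G // orderOf g = m} :=
    { smul := fun x g => ⟨x * g * (x : G)⁻¹, by
        exact (SemiconjBy.orderOf_eq (x : G) (x := g) (y := x * g * (x : G)⁻¹)
          (by simp [SemiconjBy])).symm.trans g.2⟩
      one_smul := fun g => Subtype.ext (by
        show ((1 : P) : G) * g * ((1 : P) : G)⁻¹ = g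
        simp)
      mul_smul := fun x y g => Subtype.ext (by
        show ((x * y : P) : G) * g * ((x * y : P) : G)⁻¹ = x * (y * g * (y : G)⁻¹) * (x : G)⁻¹
        simp [mul_assoc]) }
  obtain ⟨y, hy⟩ := hP.nonempty_fixed_point_of_prime_not_dvd_card _ h
  refine ⟨y, y.2, fun x hx => ?_⟩
  have : x * y * x⁻¹ = y := congrArg Subtype.val (hy ⟨x, hx⟩)
  exact mul_inv_eq_iff_eq_mul.mp this

theorem totient_mul_le_sN {p m : ℕ} (hp : p.Prime) (h : ¬ p ∣ sN G m) (hm : ¬ p ∣ m) :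
    m.totient * sN G p ≤ sN G (m * p) := by
  classical
  haveI := Fact.mk hp
  have hm0 : m ≠ 0 := by rintro rfl; simp at hm
  haveI := Fintype.ofFinite {g : G // orderOf g = p}
  rw [sN, sN, Reg.card_orderOf_eq_mul ((Nat.Prime.coprime_iff_not_dvd hp).mpr hm).symm hm0
    hp.ne_zero, card_eq_sum_card_fiber
      (α := {q : G × G // orderOf q.1 = p ∧ orderOf q.2 = m ∧ Commute q.2 q.1})
      (β := {g : G // orderOf g = p}) (fun q => ⟨q.1.1, q.2.1⟩),
    Nat.card_eq_fintype_card (α := {g : G // orderOf g = p}), mul_comm, ← smul_eq_mul,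
    ← Finset.card_univ, ← Finset.sum_const]
  refine Finset.sum_le_sum fun x _ => ?_
  obtain ⟨y, hy, hc⟩ := exists_orderOf_eq_centralizes h (P := zpowers (x : G))
    (IsPGroup.of_card (n := 1) (by rw [Nat.card_zpowers, x.2, pow_one]))
  have hc' := hc x (mem_zpowers _)
  have h1 := card_generators (G := G) (zpowers y)
  rw [Nat.card_zpowers, hy] at h1
  rw [← h1]
  refine Nat.card_le_card_of_injective (fun z => ⟨⟨(x, z), x.2, by
    rw [← Nat.card_zpowers, z.2, Nat.card_zpowers, hy], ?_⟩, rfl⟩) ?_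
  · have : (z : G) ∈ zpowers y := z.2.le (mem_zpowers _)
    obtain ⟨k, hk⟩ := mem_zpowers_iff.mp this
    show Commute (z : G) x
    rw [← hk]
    exact hc'.symm.zpow_left k
  · intro z w e
    exact Subtype.ext (congrArg (fun t => t.1.1.2) e)

theorem two_mul_le_sN {p m : ℕ} (hp : p.Prime) (h : ¬ p ∣ sN G m) (hm : ¬ p ∣ m) (h3 : 3 ≤ m) :
    2 * sN G p ≤ sN G (m * p) := by
  refine le_trans (Nat.mul_le_mul_right _ ?_) (totient_mul_le_sN hp h hm)
  exact Nat.le_of_dvd (Nat.totient_pos.mpr (by omega)) (Nat.totient_even (by omega)).two_dvd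

/-- All element orders `≥ 3` occur `a` or `b` times. -/
def TwoVal (G : Type*) [Group G] (a b : ℕ) : Prop :=
  ∀ m, 3 ≤ m → sN G m = 0 ∨ sN G m = a ∨ sN G m = b

theorem three_le_of_prime {p : ℕ} (hp : p.Prime) (h2 : p ≠ 2) : 3 ≤ p := by
  have := hp.two_le; omega

theorem prime_not_dvd_two {p : ℕ} (hp : p.Prime) (h2 : p ≠ 2) : ¬ p ∣ 2 := fun h =>
  h2 ((Nat.prime_dvd_prime_iff_eq hp Nat.prime_two).mp h)

theorem prime_dvd_of_dvd_add_self {p a : ℕ} (hp : p.Prime) (h2 : p ≠ 2) (h : p ∣ a + a) :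
    p ∣ a := by
  rw [← two_mul] at h
  exact ((Nat.Prime.dvd_mul hp).mp h).resolve_left (prime_not_dvd_two hp h2)

namespace TwoVal

variable {a b p q : ℕ}

omit [Finite G] in
theorem symm (h : TwoVal G a b) : TwoVal G b a := fun m hm => by
  rcases h m hm with h | h | h <;> simp [h]

theorem prime (h : TwoVal G a b) (hp : p.Prime) (h2 : p ≠ 2) (hd : p ∣ Nat.card G) :
    sN G p = a ∨ sN G p = b :=
  (h p (three_le_of_prime hp h2)).resolve_left (sN_prime_ne_zero hp hd)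

theorem same (h : TwoVal G a b) (hp : p.Prime) (hq : q.Prime) (hp2 : p ≠ 2) (hq2 : q ≠ 2)
    (hpq : p ≠ q) (hpd : p ∣ Nat.card G) (ha : sN G p = a) (ha' : sN G q = a) :
    sN G (q * p) = b ∧ p ∣ a + b ∧ ¬ p ∣ a ∧ ¬ p ∣ b := by
  have h1 := not_dvd_sN hp hpd
  have h2 := dvd_sN_add_sN hp hpd (m := q)
    (fun e => hpq ((Nat.prime_dvd_prime_iff_eq hp hq).mp e))
  rw [ha] at h1
  rw [ha'] at h2
  rcases h (q * p) (le_trans (three_le_of_prime hq hq2) (Nat.le_mul_of_pos_right _ hp.pos))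
    with e | e | e
  · rw [e] at h2; exact absurd h2 h1
  · rw [e] at h2; exact absurd (prime_dvd_of_dvd_add_self hp hp2 h2) h1
  · rw [e] at h2
    exact ⟨e, h2, h1, fun h3 => h1 ((Nat.dvd_add_left h3).mp h2)⟩

theorem diff (h : TwoVal G a b) (hp : p.Prime) (hq : q.Prime) (hp2 : p ≠ 2) (hq2 : q ≠ 2)
    (hpq : p ≠ q) (hpd : p ∣ Nat.card G) (hqd : q ∣ Nat.card G) (ha : sN G p = a)
    (hb : sN G q = b) : sN G (q * p) = 0 ∧ p ∣ b ∧ q ∣ a := by
  have hpq' : ¬ p ∣ q := fun e => hpq ((Nat.prime_dvd_prime_iff_eq hp hq).mp e)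
  have hqp' : ¬ q ∣ p := fun e => hpq ((Nat.prime_dvd_prime_iff_eq hq hp).mp e).symm
  have h1 := not_dvd_sN hp hpd
  have h1' := not_dvd_sN hq hqd
  have h2 := dvd_sN_add_sN hp hpd hpq'
  have h2' := dvd_sN_add_sN hq hqd hqp'
  have h3 := fun e => two_mul_le_sN hp (G := G) e hpq' (three_le_of_prime hq hq2)
  have h3' := fun e => two_mul_le_sN hq (G := G) e hqp' (three_le_of_prime hp hp2)
  have h4 := sN_prime_ne_zero hp hpd
  have h4' := sN_prime_ne_zero hq hqd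
  rw [mul_comm p q] at h2' h3'
  rw [ha] at h1 h2' h3 h3' h4
  rw [hb] at h1' h2 h3 h3' h4'
  rcases h (q * p) (le_trans (three_le_of_prime hq hq2) (Nat.le_mul_of_pos_right _ hp.pos))
    with e | e | e
  · rw [e] at h2 h2'; exact ⟨e, h2, h2'⟩
  · rw [e] at h2 h3
    have := h3 fun h5 => h1 ((Nat.dvd_add_right h5).mp h2)
    omega
  · rw [e] at h2' h3'
    have := h3' fun h5 => h1' ((Nat.dvd_add_right h5).mp h2')
    omega

theorem all_same (h : TwoVal G a b) (hp : p.Prime) (hq : q.Prime) (hp2 : p ≠ 2) (hq2 : q ≠ 2)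
    (hpq : p ≠ q) (hpd : p ∣ Nat.card G) (ha : sN G p = a) (ha' : sN G q = a) {r : ℕ}
    (hr : r.Prime) (hr2 : r ≠ 2) (hrd : r ∣ Nat.card G) : sN G r = a := by
  by_cases hrp : p = r
  · rw [← hrp, ha]
  rcases h.prime hr hr2 hrd with e | e
  · exact e
  · exact absurd (h.diff hp hr hp2 hr2 hrp hpd hrd ha e).2.1
      (h.same hp hq hp2 hq2 hpq hpd ha ha').2.2.2

theorem dvd_of_same (h : TwoVal G a b) (hp : p.Prime) (hq : q.Prime) (hp2 : p ≠ 2) (hq2 : q ≠ 2)
    (hpq : p ≠ q) (hpd : p ∣ Nat.card G) (ha : sN G p = a) (ha' : sN G q = a) {d : ℕ}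
    (hd : d ∣ Nat.card G) (hodd : Odd d) : d ∣ 1 + a := by
  rw [Nat.dvd_iff_prime_pow_dvd_dvd]
  intro r k hr hk
  rcases k with _ | k
  · simp
  have hrd' : r ∣ d := (dvd_pow_self r (by omega)).trans hk
  have hr2 : r ≠ 2 := by
    rintro rfl
    exact (Nat.not_even_iff_odd.mpr hodd) (even_iff_two_dvd.mpr hrd')
  have hrd := hrd'.trans hd
  have e := h.all_same hp hq hp2 hq2 hpq hpd ha ha' hr hr2 hrd
  have key : ¬ r ∣ a ∧ ¬ r ∣ b := by
    by_cases hrp : r = p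
    · subst hrp
      exact (h.same hp hq hp2 hq2 hpq hpd ha ha').2.2
    · exact (h.same hr hp hr2 hp2 hrp hrd e ha).2.2
  rw [← e]
  refine pow_dvd_one_add_sN hr (hk.trans hd) ?_
  have h5 := dvd_sN_of_sq_dvd (G := G) hr dvd_rfl
  rcases h (r ^ 2) (le_trans (three_le_of_prime hr hr2) (Nat.le_self_pow two_ne_zero r))
    with e | e | e
  · exact e
  · exact absurd (e ▸ h5) key.1
  · exact absurd (e ▸ h5) key.2

theorem le_card_of_same (h : TwoVal G a b) (hp : p.Prime) (hq : q.Prime) (hp2 : p ≠ 2)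
    (hq2 : q ≠ 2) (hpq : p ≠ q) (hpd : p ∣ Nat.card G) (ha : sN G p = a) (ha' : sN G q = a) :
    1 + 4 * a ≤ Nat.card G := by
  obtain ⟨h1, -, h2, -⟩ := h.same hp hq hp2 hq2 hpq hpd ha ha'
  have h3 := two_mul_le_sN hp (G := G) (m := q) (ha' ▸ h2)
    (fun e => hpq ((Nat.prime_dvd_prime_iff_eq hp hq).mp e)) (three_le_of_prime hq hq2)
  have h4 := sum_sN_le (G := G) {1, p, q, q * p}
  have hp3 := three_le_of_prime hp hp2
  have hq3 := three_le_of_prime hq hq2
  have e1 : p < q * p := by nlinarith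
  have e2 : q < q * p := by nlinarith
  rw [Finset.sum_insert (by simp; omega), Finset.sum_insert (by simp; omega),
    Finset.sum_insert (by simp; omega), Finset.sum_singleton, sN_one, ha, ha'] at h4
  rw [ha] at h3
  omega

/-- If `4 ∤ |G|`, two odd primes cannot have the same number of elements. -/
theorem not_same (h : TwoVal G a b) (h4 : ¬ 4 ∣ Nat.card G) (hp : p.Prime) (hq : q.Prime)
    (hp2 : p ≠ 2) (hq2 : q ≠ 2) (hpq : p ≠ q) (hpd : p ∣ Nat.card G) (ha : sN G p = a)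
    (ha' : sN G q = a) : False := by
  have h1 := h.le_card_of_same hp hq hp2 hq2 hpq hpd ha ha'
  have h0 : a ≠ 0 := ha ▸ sN_prime_ne_zero hp hpd
  rcases Nat.even_or_odd (Nat.card G) with he | ho
  · obtain ⟨d, hd⟩ := he.two_dvd
    have ho : Odd d := by
      rw [← Nat.not_even_iff_odd]
      rintro ⟨e, rfl⟩
      exact h4 ⟨e, by rw [hd]; ring⟩
    have := Nat.le_of_dvd (by omega) (h.dvd_of_same hp hq hp2 hq2 hpq hpd ha ha'
      (Dvd.intro_left _ hd.symm) ho)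
    omega
  · have := Nat.le_of_dvd (by omega) (h.dvd_of_same hp hq hp2 hq2 hpq hpd ha ha' dvd_rfl ho)
    omega

theorem not_self (h : TwoVal G a a) (hp : p.Prime) (hq : q.Prime)
    (hp2 : p ≠ 2) (hq2 : q ≠ 2) (hpq : p ≠ q) (hpd : p ∣ Nat.card G) (hqd : q ∣ Nat.card G) :
    False := by
  obtain ⟨-, h1, h2, -⟩ := h.same hp hq hp2 hq2 hpq hpd
    ((h.prime hp hp2 hpd).elim id id) ((h.prime hq hq2 hqd).elim id id)
  exact h2 (prime_dvd_of_dvd_add_self hp hp2 h1)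

end TwoVal

end Cfsg.Agent.PGrp
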