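import Cfsg.Agent.Lib.PGrp.ZeroNorm
import Cfsg.Agent.Lib.Cls.Solv
import Cfsg.Agent.Lib.Coprime.Generate
import Cfsg.Agent.Lib.Transfer.SylowIn

/-! Groups whose non-central `p`-regular elements all have the same class size: components. -/

set_option autoImplicit false

namespace Cfsg.Agent.PGrp

open Subgroup
open scoped commutatorElement

variable {G : Type*} [Group G] [Finite G] {p m : ℕ}

/-- `s ≠ p` is a prime with a non-central `s`-element. -/
def NcPrime (G : Type*) [Group G] (p s : ℕ) : Prop :=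
  s.Prime ∧ s ≠ p ∧ ∃ (u : G) (k : ℕ), u ^ s ^ k = 1 ∧ u ∉ center G

/-- All non-central `p`-regular elements have class size `m`, and there are at least two primes
other than `p` with non-central elements. -/
structure TwoReg (G : Type*) [Group G] (p m : ℕ) : Prop where
  hp : p.Prime
  index : ∀ x : G, (orderOf x).Coprime p → x ∉ center G → (centralizer ({x} : Set G)).index = m
  two : ∀ s, ∃ t, NcPrime G p t ∧ t ≠ s

omit [Finite G] in
theorem coprime_orderOf_of_pow {x : G} {s t k : ℕ} (hs : s.Prime) (ht : t.Prime) (hst : s ≠ t)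
    (h : x ^ s ^ k = 1) : (orderOf x).Coprime t :=
  (((Nat.coprime_primes hs ht).mpr hst).pow_left k).coprime_dvd_left (orderOf_dvd_of_pow_eq_one h)

omit [Finite G] in
theorem coprime_orderOf_of_pow' {x y : G} {s t k l : ℕ} (hs : s.Prime) (ht : t.Prime) (hst : s ≠ t)
    (h : x ^ s ^ k = 1) (h' : y ^ t ^ l = 1) : (orderOf x).Coprime (orderOf y) :=
  ((coprime_orderOf_of_pow hs ht hst h).pow_right l).coprime_dvd_right
    (orderOf_dvd_of_pow_eq_one h')

theorem pow_factorization_eq_one {x : G} {s k : ℕ} (hs : s.Prime) (h : x ^ s ^ k = 1) :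
    x ^ s ^ (Nat.card G).factorization s = 1 := by
  obtain ⟨j, -, hj⟩ := (Nat.dvd_prime_pow hs).mp (orderOf_dvd_of_pow_eq_one h)
  rw [← orderOf_dvd_iff_pow_eq_one, hj]
  exact pow_dvd_pow s ((hs.pow_dvd_iff_le_factorization Nat.card_pos.ne').mp
    (hj ▸ orderOf_dvd_natCard x))

omit [Finite G] in
theorem isPGroup_zpowers_of_pow {x : G} {s k : ℕ} (h : x ^ s ^ k = 1) :
    IsPGroup s (zpowers x) := by
  rintro ⟨y, hy⟩
  obtain ⟨j, rfl⟩ := mem_zpowers_iff.mp hy
  exact ⟨k, Subtype.ext (by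
    show (x ^ j) ^ s ^ k = 1
    rw [← zpow_natCast, ← zpow_mul, mul_comm, zpow_mul, zpow_natCast, h, one_zpow])⟩

theorem eq_of_le_of_index_eq {H K : Subgroup G} (h : H ≤ K) (e : H.index = K.index) : H = K := by
  refine eq_of_le_of_card_eq h (Nat.eq_of_mul_eq_mul_right (Nat.pos_of_ne_zero
    K.index_ne_zero_of_finite) ?_)
  rw [K.card_mul_index, ← e, H.card_mul_index]

namespace TwoReg

variable (h : TwoReg G p m) {x : G} (hx : (orderOf x).Coprime p) (hxZ : x ∉ center G)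
include h hx hxZ

theorem eq_of_le {y : G} (hy : (orderOf y).Coprime p) (hyZ : y ∉ center G)
    (hle : centralizer ({x} : Set G) ≤ centralizer {y}) :
    centralizer ({x} : Set G) = centralizer {y} :=
  eq_of_le_of_index_eq hle ((h.index x hx hxZ).trans (h.index y hy hyZ).symm)

theorem le_of_coprime {y : G} (hy : (orderOf y).Coprime p) (hc : Commute x y)
    (hxy : (orderOf x).Coprime (orderOf y)) :
    centralizer ({x} : Set G) ≤ centralizer {y} := by
  have e := Cls.centralizer_single_mul hc hxy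
  have h1 : x * y ∉ center G := fun hz => hxZ (Cls.centralizer_single_eq_top_iff.mp
    (top_le_iff.mp ((Cls.centralizer_single_eq_top_iff.mpr hz).ge.trans (e.le.trans inf_le_left))))
  have h2 := h.eq_of_le (x := x * y) (by
    rw [hc.orderOf_mul_eq_mul_orderOf_of_coprime hxy]; exact Nat.Coprime.mul_left hx hy) h1 hx hxZ
    (e.le.trans inf_le_left)
  exact h2.ge.trans (e.le.trans inf_le_right)

theorem exists_mem {s : ℕ} (hs : NcPrime G p s) :
    ∃ a ∈ centralizer ({x} : Set G), ∃ k, a ^ s ^ k = 1 ∧ a ∉ center G := by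
  obtain ⟨hs, hsp, u, k, hu, huZ⟩ := hs
  haveI := Fact.mk hs
  by_contra hc
  push Not at hc
  obtain ⟨S, hS⟩ := Coprime.exists_isSylowIn s (centralizer ({x} : Set G))
  have hSZ : S ≤ center G := fun a ha => by
    obtain ⟨j, hj⟩ := hS.2.1 ⟨a, ha⟩
    exact hc a (hS.1 ha) j (congrArg Subtype.val hj)
  have hcard : Nat.card (centralizer ({x} : Set G)) = Nat.card (centralizer ({u} : Set G)) := by
    refine Nat.eq_of_mul_eq_mul_right (Nat.pos_of_ne_zero
      (centralizer ({x} : Set G)).index_ne_zero_of_finite) ?_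
    rw [card_mul_index, h.index x hx hxZ,
      ← h.index u (coprime_orderOf_of_pow hs h.hp hsp hu) huZ, card_mul_index]
  have hS' : Coprime.IsSylowIn s S (centralizer ({u} : Set G)) :=
    Coprime.isSylowIn_of_card_eq (hSZ.trans (Cls.center_le_centralizer_single u))
      (by rw [← hcard]; exact hS.card_eq)
  haveI := normal_of_le_center hSZ
  exact huZ (hSZ (hS'.le_of_le_normalizer' (Cls.zpowers_le_centralizer_single u)
    (isPGroup_zpowers_of_pow hu) le_normalizer_of_normal (mem_zpowers u)))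

omit hx in
theorem le_of_primary {s k : ℕ} (hs : s.Prime) (hsp : s ≠ p) (hk : x ^ s ^ k = 1) {a : G}
    (ha : a ∈ centralizer ({x} : Set G)) {t l : ℕ} (ht : t.Prime) (htp : t ≠ p)
    (hl : a ^ t ^ l = 1) : centralizer ({x} : Set G) ≤ centralizer {a} := by
  have hx := coprime_orderOf_of_pow hs h.hp hsp hk
  have hap := coprime_orderOf_of_pow ht h.hp htp hl
  by_cases hst : s = t
  · subst hst
    obtain ⟨r, hr, hrs⟩ := h.two s
    obtain ⟨y, hy, j, hj, hyZ⟩ := h.exists_mem hx hxZ hr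
    have hyp := coprime_orderOf_of_pow hr.1 h.hp hr.2.1 hj
    have e := h.eq_of_le hx hxZ hyp hyZ (h.le_of_coprime hx hxZ hyp
      (Cls.mem_centralizer_single_commute.mp hy).symm
      (coprime_orderOf_of_pow' hs hr.1 hrs.symm hk hj))
    rw [e] at ha ⊢
    exact h.le_of_coprime hyp hyZ hap (Cls.mem_centralizer_single_commute.mp ha).symm
      (coprime_orderOf_of_pow' hr.1 hs hrs hj hl)
  · exact h.le_of_coprime hx hxZ hap (Cls.mem_centralizer_single_commute.mp ha).symm
      (coprime_orderOf_of_pow' hs ht hst hk hl)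

theorem le_cent {a : G} (ha : a ∈ centralizer ({x} : Set G)) (hap : (orderOf a).Coprime p) :
    centralizer ({x} : Set G) ≤ centralizer {a} := by
  have key : ∀ {x : G}, (orderOf x).Coprime p → ∀ s : ℕ, s.Prime → ∀ u ∈ zpowers x, ∀ k,
      orderOf u = s ^ k → u ≠ 1 → s ≠ p := by
    rintro x hx s hs u hu k hk hu1 rfl
    have h1 : (orderOf u).Coprime s := hx.coprime_dvd_left (orderOf_dvd_of_mem_zpowers hu)
    rw [hk] at h1
    rcases k with _ | k
    · exact hu1 (orderOf_eq_one_iff.mp (by simpa using hk))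
    · exact hs.one_lt.ne' (Nat.Coprime.eq_one_of_dvd h1.symm (dvd_pow_self s (by omega)))
  obtain ⟨s, hs, u, hu, ⟨k, hk⟩, huZ⟩ : ∃ s : ℕ, s.Prime ∧ ∃ u ∈ zpowers x,
      (∃ k, orderOf u = s ^ k) ∧ u ∉ center G := by
    by_contra hc
    push Not at hc
    exact hxZ (Cls.mem_of_forall_prime_pow hc)
  have hsp := key hx s hs u hu k hk (fun e => huZ (e ▸ one_mem _))
  have hk' : u ^ s ^ k = 1 := by rw [← hk, pow_orderOf_eq_one]
  have e := h.eq_of_le hx hxZ (coprime_orderOf_of_pow hs h.hp hsp hk') huZ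
    (Cls.centralizer_single_le_of_mem_zpowers hu)
  rw [e] at ha ⊢
  refine Cls.le_centralizer_single_iff.mpr (Cls.mem_of_forall_prime_pow fun t ht b hb ⟨l, hl⟩ => ?_)
  by_cases hb1 : b = 1
  · rw [hb1]; exact one_mem _
  exact Cls.le_centralizer_single_iff.mp (h.le_of_primary huZ hs hsp hk' (zpowers_le.mpr ha hb) ht
    (key hap t ht b hb l hl hb1) (by rw [← hl, pow_orderOf_eq_one]))

theorem eq_cent {a : G} (ha : a ∈ centralizer ({x} : Set G)) (hap : (orderOf a).Coprime p)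
    (haZ : a ∉ center G) : centralizer ({a} : Set G) = centralizer {x} :=
  (h.eq_of_le hx hxZ hap haZ (h.le_cent hx hxZ ha hap)).symm

/-- the `s`-elements of the component of `x` -/
theorem exists_part {s : ℕ} (hs : NcPrime G p s) : ∃ D : Subgroup G, IsPGroup s D ∧
    IsMulCommutative D ∧ D ≤ centralizer ({x} : Set G) ∧ ¬ D ≤ center G ∧
    normalizer ((centralizer ({x} : Set G) : Subgroup G) : Set G) ≤ normalizer (D : Set G) ∧
    (∀ a ∈ centralizer ({x} : Set G), ∀ k, a ^ s ^ k = 1 → a ∈ D) ∧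
    centralizer (D : Set G) = centralizer ({x} : Set G) := by
  set C := centralizer ({x} : Set G) with hC
  have hA : IsMulCommutative (C ⊓ centralizer (C : Set G) : Subgroup G) :=
    Core.isMulCommutative_of_forall fun a ha b hb => hb.2 a ha.1
  have hmem : ∀ a ∈ C, ∀ k, a ^ s ^ k = 1 →
      a ∈ Core.powKer _ hA (s ^ (Nat.card G).factorization s) := fun a ha k hk =>
    Core.mem_powKer.mpr ⟨⟨ha, Cls.le_centralizer_single_iff.mp (h.le_cent hx hxZ ha
      (coprime_orderOf_of_pow hs.1 h.hp hs.2.1 hk))⟩, pow_factorization_eq_one hs.1 hk⟩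
  obtain ⟨a, ha, k, hk, haZ⟩ := h.exists_mem hx hxZ hs
  refine ⟨Core.powKer _ hA (s ^ (Nat.card G).factorization s),
    fun a => ⟨_, Subtype.ext (Core.mem_powKer.mp a.2).2⟩,
    Core.isMulCommutative_of_le hA (Core.powKer_le _ _ _),
    (Core.powKer_le _ _ _).trans inf_le_left, fun e => haZ (e (hmem a ha k hk)),
    (Core.le_normalizer_inf le_rfl (Core.le_normalizer_centralizer le_rfl)).trans
      (Core.normalizer_le_normalizer_powKer _ _ _), hmem, le_antisymm ?_ ?_⟩
  · exact (centralizer_le (Set.singleton_subset_iff.mpr (hmem a ha k hk))).trans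
      (h.eq_cent hx hxZ ha (coprime_orderOf_of_pow hs.1 h.hp hs.2.1 hk) haZ).le
  · exact le_centralizer_iff.mp ((Core.powKer_le _ _ _).trans inf_le_right)

/-- a `u`-element normalizing the component has its `u`-th power in it -/
theorem pow_mem {u : ℕ} (hu : NcPrime G p u) {w : G}
    (hw : w ∈ normalizer ((centralizer ({x} : Set G) : Subgroup G) : Set G)) {k : ℕ}
    (hk : w ^ u ^ k = 1) : w ^ u ∈ centralizer ({x} : Set G) := by
  haveI := Fact.mk hu.1
  obtain ⟨D, hD, -, hDC, hDZ, hn, -, -⟩ := h.exists_part hx hxZ hu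
  obtain ⟨a, ha, haZ, hau, hc⟩ := exists_fixed_mod_center (isPGroup_zpowers_of_pow hk) hD
    (zpowers_le.mpr (hn hw)) hDZ
  obtain ⟨j, hj⟩ := hD ⟨a, ha⟩
  rw [← h.eq_cent hx hxZ (hDC ha)
    (coprime_orderOf_of_pow hu.1 h.hp hu.2.1 (congrArg Subtype.val hj)) haZ]
  exact Cls.mem_centralizer_single_commute.mpr
    (commute_pow_of_commutator_mem_center (hc w (mem_zpowers w)) hau)

theorem mem_of_commutator_mem {u : ℕ} (hu : NcPrime G p u) {w g : G}
    (hw : w ∈ normalizer ((centralizer ({x} : Set G) : Subgroup G) : Set G)) {k : ℕ}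
    (hk : w ^ u ^ k = 1) (hwC : w ∉ centralizer ({x} : Set G))
    (hg : g ∈ normalizer ((centralizer ({x} : Set G) : Subgroup G) : Set G)) {n : ℕ}
    (hn : n.Coprime u) (hgn : g ^ n ∈ centralizer ({x} : Set G))
    (hc : w⁻¹ * (g⁻¹ * w * g) ∈ centralizer ({x} : Set G)) : g ∈ centralizer ({x} : Set G) := by
  haveI := Fact.mk hu.1
  obtain ⟨D, hD, hDc, hDC, hDZ, hN, -, hCD⟩ := h.exists_part hx hxZ hu
  obtain ⟨a, ha, haZ, -, hwa⟩ := exists_fixed_mod_center (isPGroup_zpowers_of_pow hk) hD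
    (zpowers_le.mpr (hN hw)) hDZ
  have hwa := Subgroup.mem_center_iff.mp (hwa w (mem_zpowers w))
  have hreg : ∀ b ∈ D, ∃ j, b ^ u ^ j = 1 := fun b hb => by
    obtain ⟨j, hj⟩ := hD ⟨b, hb⟩
    exact ⟨j, congrArg Subtype.val hj⟩
  have heq : ∀ b ∈ D, b ∉ center G → centralizer ({b} : Set G) = centralizer {x} :=
    fun b hb hbZ => by
      obtain ⟨j, hj⟩ := hreg b hb
      exact h.eq_cent hx hxZ (hDC hb) (coprime_orderOf_of_pow hu.1 h.hp hu.2.1 hj) hbZ
  have hga : g * a * g⁻¹ ∈ D := Frob.conj_mem_of_mem_normalizer (hN hg) ha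
  have hb : ⁅g, a⁆ ∈ D := mul_mem hga (inv_mem ha)
  have hbZ : ⁅g, a⁆ ∈ center G := by
    by_contra hbZ
    refine hwC (heq _ hb hbZ ▸ Cls.mem_centralizer_single.mpr ?_)
    rw [← hCD] at hc
    have h1 := hc a ha
    have e1 : w * a * w⁻¹ = ⁅w, a⁆ * a := by rw [commutatorElement_def]; group
    have e2 : w * (g * a * g⁻¹) * w⁻¹ = ⁅w, a⁆ * (g * a * g⁻¹) := by
      calc w * (g * a * g⁻¹) * w⁻¹
          = g * (w * ((w⁻¹ * (g⁻¹ * w * g)) * a * (w⁻¹ * (g⁻¹ * w * g))⁻¹) * w⁻¹) * g⁻¹ := by group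
        _ = g * (⁅w, a⁆ * a) * g⁻¹ := by rw [← h1, mul_inv_cancel_right, e1]
        _ = ⁅w, a⁆ * (g * a * g⁻¹) := by rw [← mul_assoc, hwa g]; group
    calc w * ⁅g, a⁆ = (w * (g * a * g⁻¹) * w⁻¹) * (w * a * w⁻¹)⁻¹ * w := by
          rw [commutatorElement_def]; group
      _ = ⁅w, a⁆ * (g * a * g⁻¹ * a⁻¹) * ⁅w, a⁆⁻¹ * w := by rw [e1, e2]; group
      _ = ⁅g, a⁆ * w := by rw [← hwa, commutatorElement_def g a]; group
  obtain ⟨j, hj⟩ := hreg a ha
  rw [← heq a ha haZ] at hgn ⊢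
  exact Cls.mem_centralizer_single_commute.mpr (commute_of_commutator_mem_center hbZ
    (Cls.mem_centralizer_single_commute.mp hgn) hj (hn.pow_right j))

theorem exists_mem_normalizer {s : ℕ} (hs : NcPrime G p s) (hsm : s ∣ m) :
    ∃ w ∈ normalizer ((centralizer ({x} : Set G) : Subgroup G) : Set G),
      w ∉ centralizer ({x} : Set G) ∧ ∃ k, w ^ s ^ k = 1 := by
  haveI := Fact.mk hs.1
  obtain ⟨D, hD, -, hDC, hDZ, hN, hmem, hCD⟩ := h.exists_part hx hxZ hs
  obtain ⟨S, hS⟩ := hD.exists_le_sylow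
  have hlt : D < S := lt_of_le_of_ne hS fun e =>
    Cls.not_dvd_index_of_sylow_le (Q := S) (e ▸ hDC) (h.index x hx hxZ ▸ hsm)
  obtain ⟨w, ⟨hwS, hwN⟩, hwD⟩ := SetLike.exists_of_lt (lt_inf_normalizer S.isPGroup' hlt)
  obtain ⟨k, hk⟩ := S.isPGroup' ⟨w, hwS⟩
  have hk' : w ^ s ^ k = 1 := congrArg Subtype.val hk
  exact ⟨w, hCD ▸ Core.le_normalizer_centralizer le_rfl hwN, fun e => hwD (hmem w e k hk'), k, hk'⟩

end TwoReg

end Cfsg.Agent.PGrp
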