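import Cfsg.Agent.Lib.PGrp.SameOrder
import Cfsg.Agent.Lib.PGrp.Basic
import Cfsg.Agent.Lib.Frob.Basic
import Cfsg.Agent.Lib.Core.MinNormal

/-! Groups represented in a ring so that all elements of prime order have norm zero; elements
fixed modulo the centre. -/

set_option autoImplicit false

namespace Cfsg.Agent.PGrp

open Subgroup
open scoped commutatorElement

section ring

variable {L R : Type*} [Group L] [Finite L] [Ring R] (ι : L →* R)
  (hι : ∀ w : L, (orderOf w).Prime → ∑ i ∈ Finset.range (orderOf w), ι (w ^ i) = 0)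
include hι

theorem natCast_eq_zero_of_zero_norm {y x : L} (hy : (orderOf y).Prime)
    (hx : x ∈ normalizer (zpowers y : Set L)) {n : ℕ} (hn : n.Prime)
    (ho : ∀ c ∈ zpowers y, orderOf (c * x) = n) : (orderOf y : R) = 0 := by
  classical
  haveI := Fintype.ofFinite (zpowers y)
  have hQ : ∑ c : zpowers y, ι c = 0 := by
    rw [← hι y hy, Finset.sum_range (fun i => ι (y ^ i))]
    exact (Fintype.sum_equiv (finEquivZPowers (isOfFinOrder_of_finite y)) _ _ fun _ => rfl).symm
  obtain ⟨k, rfl⟩ : ∃ k, n = k + 1 := ⟨n - 1, by have := hn.pos; omega⟩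
  have h1 : ∑ c : zpowers y, ∑ i ∈ Finset.range (k + 1), ι ((c * x) ^ i) = 0 :=
    Finset.sum_eq_zero fun c _ => by
      have := hι (c * x) (by rw [ho c c.2]; exact hn)
      rwa [ho c c.2] at this
  rw [Finset.sum_comm, Finset.sum_range_succ', Finset.sum_eq_zero, zero_add] at h1
  · simpa [← Nat.card_eq_fintype_card, Nat.card_zpowers] using h1
  intro i hi
  have hi' := Finset.mem_range.mp hi
  have hmem : ∀ (c : zpowers y) (j : ℕ), ((c : L) * x) ^ j * (x ^ j)⁻¹ ∈ zpowers y := by
    intro c j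
    induction j with
    | zero => simp
    | succ j ih =>
      have : ((c : L) * x) ^ (j + 1) * (x ^ (j + 1))⁻¹ =
        (c * x) ^ j * (x ^ j)⁻¹ * (x ^ j * c * (x ^ j)⁻¹) := by rw [pow_succ, pow_succ]; group
      rw [this]
      exact mul_mem ih (Frob.conj_mem_of_mem_normalizer (pow_mem hx _) c.2)
  let φ : zpowers y → zpowers y := fun c => ⟨_, hmem c (i + 1)⟩
  have hφ : Function.Injective φ := by
    intro c d e
    have e1 : ((c : L) * x) ^ (i + 1) = (d * x) ^ (i + 1) :=
      mul_right_cancel (congrArg Subtype.val e)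
    have hcop : (i + 1).Coprime (k + 1) :=
      ((Nat.coprime_of_lt_prime (by omega) (by omega) hn)).symm
    obtain ⟨j, -, hj⟩ := Nat.exists_mul_mod_eq_one_of_coprime hcop hn.one_lt
    have key : ∀ c : zpowers y, (((c : L) * x) ^ (i + 1)) ^ j = c * x := fun c => by
      rw [← pow_mul, ← pow_mod_orderOf, ho c c.2, hj, pow_one]
    exact Subtype.ext (mul_right_cancel ((key c).symm.trans (e1 ▸ key d)))
  have h2 : ∑ c : zpowers y, ι (φ c) = 0 := by
    rw [← hQ]
    exact Fintype.sum_bijective φ (Finite.injective_iff_bijective.mp hφ) _ _ fun _ => rfl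
  calc ∑ c : zpowers y, ι ((c * x) ^ (i + 1)) = ∑ c : zpowers y, ι (φ c) * ι (x ^ (i + 1)) := by
        refine Finset.sum_congr rfl fun c _ => ?_
        rw [← map_mul]
        congr 1
        simp only [φ]
        group
    _ = 0 := by rw [← Finset.sum_mul, h2, zero_mul]

theorem sN_mul_eq_of_zero_norm {u : ℕ} (hu : u.Prime) (hR : (u : R) ≠ 0) (hd : u ∣ Nat.card L)
    (hE : ∀ (w : L) (k : ℕ), w ^ u ^ k = 1 → w ^ u = 1)
    (hX : ∀ h w : L, orderOf h = u → (orderOf w).Coprime u → Commute h w → w = 1) :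
    sN L u * u = (u - 1) * Nat.card L := by
  haveI := Fact.mk hu
  obtain ⟨U⟩ : Nonempty (Sylow u L) := inferInstance
  obtain ⟨y, -, hyc, hyo⟩ := exists_mem_center_orderOf_eq U.isPGroup' (N := ⊤) (by
    haveI := (Subgroup.nontrivial_iff_ne_bot _).mpr (U.ne_bot_of_dvd_card hd)
    exact top_ne_bot)
  have hyo' : orderOf (y : L) = u := by rw [Subgroup.orderOf_coe, hyo]
  have hU : zpowers (y : L) = U := by
    refine le_antisymm (zpowers_le.mpr y.2) fun x hx => ?_
    by_contra hxy
    have hc : x * y = y * x := congrArg Subtype.val (Subgroup.mem_center_iff.mp hyc ⟨x, hx⟩)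
    refine hR (hyo' ▸ natCast_eq_zero_of_zero_norm ι hι (x := x) (by rw [hyo']; exact hu) ?_ hu fun c hc => ?_)
    · refine centralizer_le_normalizer _ (mem_centralizer_iff.mpr fun g hg => ?_)
      obtain ⟨k, rfl⟩ := mem_zpowers_iff.mp hg
      exact (Commute.zpow_left hc.symm k)
    · obtain ⟨k, hk⟩ := U.isPGroup' ⟨c * x, mul_mem (zpowers_le.mpr y.2 hc) hx⟩
      refine orderOf_eq_prime (hE _ k (congrArg Subtype.val hk)) fun e => hxy ?_
      rw [eq_inv_of_mul_eq_one_right e]
      exact inv_mem hc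
  have hUc : Nat.card (U : Subgroup L) = u := by rw [← hU, Nat.card_zpowers, hyo']
  have hN : normalizer ((U : Subgroup L) : Set L) = U := by
    refine U.is_maximal' (IsPGroup.iff_card.mpr ⟨_, Nat.eq_prime_pow_of_unique_prime_dvd
      Nat.card_pos.ne' fun {t} ht hd => ?_⟩) le_normalizer
    by_contra htu
    haveI := Fact.mk ht
    obtain ⟨w, hw, hwo⟩ := Core.exists_mem_orderOf_eq_of_dvd_card hd
    rw [← hU] at hw
    refine hR (hyo' ▸ natCast_eq_zero_of_zero_norm ι hι (x := w) (by rw [hyo']; exact hu) hw ht fun c hc => ?_)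
    obtain ⟨z, -, hz⟩ := Frob.exists_conj_of_fpf hw (fun k hk hc => by
      by_contra hk1
      have hko : orderOf k = u := orderOf_eq_prime (by
        have := Subgroup.orderOf_dvd_natCard _ hk
        rwa [Nat.card_zpowers, hyo', orderOf_dvd_iff_pow_eq_one] at this) hk1
      have := hX k w hko (hwo ▸ (Nat.coprime_primes ht hu).mpr htu) hc.symm
      rw [this, orderOf_one] at hwo
      exact ht.one_lt.ne hwo) hc
    rw [← hz, ← hwo]
    exact (SemiconjBy.orderOf_eq z (x := w) (y := z * w * z⁻¹) (by simp [SemiconjBy])).symm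
  have hb : sN L u = (u - 1) * (U : Subgroup L).index := by
    rw [sN, card_orderOf_eq_totient_mul, Nat.totient_prime hu, ← hN]
    congr 1
    refine Eq.trans ?_ U.card_eq_index_normalizer
    have hf : u ^ (Nat.card L).factorization u = u := by rw [← U.card_eq_multiplicity, hUc]
    refine (Nat.card_congr (Equiv.ofBijective (fun R : Sylow u L =>
      (⟨R, isCyclic_of_prime_card (p := u) (by rw [R.card_eq_multiplicity, hf]),
        by rw [R.card_eq_multiplicity, hf]⟩ :
        {H : Subgroup L // IsCyclic H ∧ Nat.card H = u})) ⟨?_, ?_⟩)).symm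
    · intro R S e
      exact Sylow.ext (congrArg Subtype.val e)
    · rintro ⟨H, h1, h2⟩
      exact ⟨Sylow.ofCard H (by rw [h2, hf]), rfl⟩
  rw [hb, mul_assoc, ← (U : Subgroup L).index_mul_card, hUc]

end ring

theorem false_of_sN_mul_eq {L : Type*} [Group L] [Finite L] {q s : ℕ} (hq : q.Prime) (hs : s.Prime)
    (hqs : q ≠ s) (h1 : sN L q * q = (q - 1) * Nat.card L)
    (h2 : sN L s * s = (s - 1) * Nat.card L) : False := by
  have h3 := sum_sN_le (G := L) {q, s}
  rw [Finset.sum_pair hqs] at h3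
  have h0 : 0 < Nat.card L := Nat.card_pos
  have key : ∀ {a q : ℕ}, 2 ≤ q → a * q = (q - 1) * Nat.card L → Nat.card L ≤ 2 * a ∧
      (3 ≤ q → Nat.card L < 2 * a) := by
    intro a q h2 h
    obtain ⟨k, rfl⟩ : ∃ k, q = k + 1 := ⟨q - 1, by omega⟩
    simp only [add_tsub_cancel_right] at h
    constructor
    · by_contra hc
      nlinarith
    · intro h3
      by_contra hc
      nlinarith
  have a1 := key hq.two_le h1
  have a2 := key hs.two_le h2
  have := hq.two_le
  have := hs.two_le
  by_cases h : 3 ≤ q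
  · have := a1.2 h; omega
  · have := a2.2 (by omega); omega

variable {G : Type*} [Group G]

theorem commute_of_commutator_mem_center {g a : G} {n k : ℕ} (h : ⁅g, a⁆ ∈ center G)
    (hg : Commute (g ^ n) a) (ha : a ^ k = 1) (hnk : n.Coprime k) : Commute g a := by
  have hc := Subgroup.mem_center_iff.mp h
  have e : g * a = ⁅g, a⁆ * (a * g) := by rw [commutatorElement_def]; group
  have h1 : ∀ j : ℕ, g ^ j * a = ⁅g, a⁆ ^ j * (a * g ^ j) := by
    intro j
    induction j with
    | zero => simp
    | succ j ih =>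
      rw [pow_succ', mul_assoc, ih, ← mul_assoc, Subgroup.mem_center_iff.mp (pow_mem h j) g,
        mul_assoc, ← mul_assoc g, e, pow_succ]
      group
  have h2 : ∀ j : ℕ, g * a ^ j = ⁅g, a⁆ ^ j * (a ^ j * g) := by
    intro j
    induction j with
    | zero => simp
    | succ j ih =>
      rw [pow_succ, ← mul_assoc, ih, mul_assoc, mul_assoc, e, ← mul_assoc (a ^ j), hc (a ^ j),
        pow_succ]
      group
  have h3 : ⁅g, a⁆ ^ n = 1 := by
    have := h1 n
    rw [hg.eq] at this
    exact (mul_eq_right.mp this.symm)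
  have h4 : ⁅g, a⁆ ^ k = 1 := by
    have := h2 k
    rw [ha, mul_one, one_mul] at this
    exact (mul_eq_right.mp this.symm)
  exact commutatorElement_eq_one_iff_commute.mp
    (orderOf_eq_one_iff.mp (Nat.eq_one_of_dvd_coprimes hnk (orderOf_dvd_of_pow_eq_one h3)
      (orderOf_dvd_of_pow_eq_one h4)))

theorem commute_pow_of_commutator_mem_center {g a : G} {k : ℕ} (h : ⁅g, a⁆ ∈ center G)
    (ha : a ^ k ∈ center G) : Commute (g ^ k) a := by
  have hc := Subgroup.mem_center_iff.mp h
  have e : g * a = ⁅g, a⁆ * (a * g) := by rw [commutatorElement_def]; group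
  have h1 : ∀ j : ℕ, g ^ j * a = ⁅g, a⁆ ^ j * (a * g ^ j) := by
    intro j
    induction j with
    | zero => simp
    | succ j ih =>
      rw [pow_succ', mul_assoc, ih, ← mul_assoc, Subgroup.mem_center_iff.mp (pow_mem h j) g,
        mul_assoc, ← mul_assoc g, e, pow_succ]
      group
  have h2 : ∀ j : ℕ, g * a ^ j = ⁅g, a⁆ ^ j * (a ^ j * g) := by
    intro j
    induction j with
    | zero => simp
    | succ j ih =>
      rw [pow_succ, ← mul_assoc, ih, mul_assoc, mul_assoc, e, ← mul_assoc (a ^ j), hc (a ^ j),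
        pow_succ]
      group
  have h4 : ⁅g, a⁆ ^ k = 1 := by
    have := h2 k
    rw [Subgroup.mem_center_iff.mp ha g] at this
    exact (mul_eq_right.mp this.symm)
  have := h1 k
  rwa [h4, one_mul] at this

/-- A `p`-group normalizing a non-central `p`-group fixes a non-central element modulo the
centre. -/
theorem exists_fixed_mod_center [Finite G] {p : ℕ} [Fact p.Prime] {T D : Subgroup G}
    (hT : IsPGroup p T) (hD : IsPGroup p D) (hn : T ≤ normalizer (D : Set G))
    (hDZ : ¬ D ≤ center G) :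
    ∃ a ∈ D, a ∉ center G ∧ a ^ p ∈ center G ∧ ∀ g ∈ T, ⁅g, a⁆ ∈ center G := by
  let f := QuotientGroup.mk' (center G)
  have h1 : D.map f ≠ ⊥ := fun e => hDZ (by
    rwa [Subgroup.map_eq_bot_iff, QuotientGroup.ker_mk'] at e)
  have h2 := inf_centralizer_ne_bot (hT.map f) (hD.map f)
    ((map_mono hn).trans (le_normalizer_map f)) h1
  obtain ⟨x, ⟨⟨a, ha, rfl⟩, hx⟩, ho⟩ := exists_orderOf_eq_prime_of_ne_bot
    ((hD.map f).to_le inf_le_left) h2
  refine ⟨a, ha, fun e => ?_, ?_, fun g hg => ?_⟩
  · rw [show f a = 1 from (QuotientGroup.eq_one_iff a).mpr e, orderOf_one] at ho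
    exact (Fact.out : p.Prime).one_lt.ne ho
  · rw [← QuotientGroup.eq_one_iff]
    change f (a ^ p) = 1
    rw [map_pow, ← ho, pow_orderOf_eq_one]
  · rw [← QuotientGroup.eq_one_iff]
    change f ⁅g, a⁆ = 1
    rw [map_commutatorElement, commutatorElement_eq_one_iff_mul_comm]
    exact hx (f g) (mem_map_of_mem f hg)

end Cfsg.Agent.PGrp
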